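import Mathlib
import Cfsg.Agent.S3972
import Cfsg.Agent.S0675

/-!
# Transitive groups of odd order with a cyclic transitive subgroup, prime power degree
-/

set_option autoImplicit false

namespace Cfsg.Agent.QBaer

open MulAction Subgroup

universe u v

/-- A group of odd order is never doubly transitive on at least two points. -/
theorem not_two_pretransitive {G : Type u} [Group G] [Finite G] {α : Type v} [MulAction G α]
    (hodd : Odd (Nat.card G)) [Nontrivial α] : ¬ IsMultiplyPretransitive G α 2 := by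
  intro h
  rw [MulAction.is_two_pretransitive_iff] at h
  obtain ⟨a, b, hab⟩ := exists_pair_ne α
  obtain ⟨g, h1, h2⟩ := h hab hab.symm
  have hp : Function.minimalPeriod (g • ·) a = 2 := by
    refine Nat.le_antisymm ?_ ?_
    · refine Function.IsPeriodicPt.minimalPeriod_le (by norm_num) ?_
      show g • (g • a) = a
      rw [h1, h2]
    · by_contra hlt
      have : Function.minimalPeriod (g • ·) a = 1 := by
        have : 0 < Function.minimalPeriod (g • ·) a :=
          Function.IsPeriodicPt.minimalPeriod_pos (n := 2) (by norm_num)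
            (show g • (g • a) = a by rw [h1, h2])
        omega
      rw [Function.minimalPeriod_eq_one_iff_isFixedPt] at this
      exact hab (this.symm.trans h1)
  have h3 : 2 ∣ orderOf g := by
    have := MulAction.period_dvd_orderOf g a
    rwa [MulAction.period_eq_minimalPeriod, hp] at this
  exact (Nat.not_even_iff_odd.2 hodd) (even_iff_two_dvd.2 (h3.trans (orderOf_dvd_natCard g)))

/-- A transitive cyclic group has at most as many points as elements. -/
theorem card_dvd_orderOf {G : Type u} [Group G] [Finite G] {α : Type v} [Finite α] [MulAction G α]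
    (g : G) [hg : IsPretransitive (zpowers g) α] [Nonempty α] : Nat.card α ∣ orderOf g := by
  obtain ⟨a⟩ := ‹Nonempty α›
  have := index_stabilizer (zpowers g) a
  rw [orbit_eq_univ, Set.ncard_univ] at this
  rw [← this, ← Nat.card_zpowers]
  exact index_dvd_card _

/-- A transitive group of odd order and prime power degree with a cyclic transitive subgroup is
solvable. -/
theorem solvable_aux {p : ℕ} (hp : p.Prime) (m : ℕ) :
    ∀ (G : Type v) [Group G] [Finite G] (α : Type v) [Finite α] [MulAction G α] [FaithfulSMul G α]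
      (g : G) [IsPretransitive (zpowers g) α], Odd (Nat.card G) → Nat.card α = p ^ m →
      Group.IsSolvable G := by
  induction m using Nat.strong_induction_on with
  | _ m ih => ?_
  intro G _ _ α _ _ _ g hg hodd hcard
  classical
  have : Fintype α := Fintype.ofFinite α
  have htrG : IsPretransitive G α := ⟨fun x y => by
    obtain ⟨z, hz⟩ := exists_smul_eq (zpowers g) x y
    exact ⟨z, hz⟩⟩
  rcases Nat.eq_zero_or_pos m with rfl | hm
  · have : Subsingleton α := (Nat.card_eq_one_iff_unique.1 (by simpa using hcard)).1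
    have : Subsingleton G := ⟨fun a b => FaithfulSMul.eq_of_smul_eq_smul fun x : α => Subsingleton.elim _ _⟩
    exact ⟨⟨0, Subsingleton.elim _ _⟩⟩
  have : Nontrivial α := Finite.one_lt_card_iff_nontrivial.1 (by
    rw [hcard]; exact Nat.one_lt_pow hm.ne' hp.one_lt)
  set φ := MulAction.toPermHom G α with hφ
  have hφi : Function.Injective φ := MulAction.toPerm_injective
  set Gi := φ.range with hGi
  have htr : IsPretransitive Gi α := ⟨fun x y => by
    obtain ⟨z, hz⟩ := exists_smul_eq G x y
    exact ⟨⟨φ z, z, rfl⟩, hz⟩⟩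
  have h2 : ¬ IsMultiplyPretransitive Gi α 2 :=
    not_two_pretransitive (by rwa [Nat.card_congr (MonoidHom.ofInjective hφi).toEquiv.symm])
  have hback : Group.IsSolvable Gi → Group.IsSolvable G := fun h =>
    solvable_of_solvable_injective (f := (MonoidHom.ofInjective hφi).toMonoidHom)
      (MonoidHom.ofInjective hφi).injective
  rcases Nat.lt_or_ge m 2 with h1 | h1
  · refine hback ((Agent.S0675.result ?_ Gi).resolve_right h2)
    rw [← Nat.card_eq_fintype_card, hcard, show m = 1 by omega, pow_one]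
    exact hp
  -- the order of `g`
  have hord : orderOf g = p ^ m := by
    refine Nat.dvd_antisymm (orderOf_dvd_of_pow_eq_one ?_) (hcard ▸ card_dvd_orderOf g)
    refine FaithfulSMul.eq_of_smul_eq_smul fun x : α => ?_
    obtain ⟨a⟩ := (inferInstance : Nonempty α)
    have hper : g ^ p ^ m • a = a := by
      rw [MulAction.pow_smul_eq_iff_period_dvd, MulAction.period_eq_minimalPeriod, ← hcard,
        MulAction.minimalPeriod_eq_card, ← Nat.card_eq_fintype_card]
      have : orbit (zpowers g) a = Set.univ := orbit_eq_univ _ _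
      rw [this, Nat.card_congr (Equiv.Set.univ α)]
    obtain ⟨⟨z, hz⟩, rfl⟩ := exists_smul_eq (zpowers g) a x
    obtain ⟨k, rfl⟩ := hz
    rw [one_smul]
    show g ^ p ^ m • (g ^ k • a) = g ^ k • a
    rw [← mul_smul, ← zpow_natCast, ← zpow_add, add_comm, zpow_add, mul_smul, zpow_natCast, hper]
  have hg' : orderOf (⟨φ g, g, rfl⟩ : Gi) = p ^ m := by
    rw [← orderOf_coe, orderOf_injective φ hφi, hord]
  obtain ⟨-, hint⟩ := Agent.S3972.result p m hp h1 (by rw [← Nat.card_eq_fintype_card, hcard]) Gi htr h2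
    _ hg'
  set N := normalClosure ({g ^ p ^ (m - 1)} : Set G) with hN
  have hNint : ¬ IsPretransitive N α := fun hNt => hint ⟨fun x y => by
    obtain ⟨⟨z, hz⟩, hzx⟩ := exists_smul_eq N x y
    refine ⟨⟨⟨φ z, z, rfl⟩, ?_⟩, hzx⟩
    have hle : N ≤ (normalClosure ({(⟨φ g, g, rfl⟩ : Gi) ^ p ^ (m - 1)} : Set Gi)).comap
        φ.rangeRestrict := by
      refine normalClosure_le_normal (Set.singleton_subset_iff.2 ?_)
      rw [SetLike.mem_coe, mem_comap, map_pow]
      exact subset_normalClosure (Set.mem_singleton _)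
    exact hle hz⟩
  -- some point is moved by `N`
  obtain ⟨a, ha⟩ : ∃ a : α, g ^ p ^ (m - 1) • a ≠ a := by
    by_contra! h
    have h' : g ^ p ^ (m - 1) = 1 := FaithfulSMul.eq_of_smul_eq_smul fun x : α => by rw [h, one_smul]
    have := Nat.le_of_dvd (pow_pos hp.pos _) (hord ▸ orderOf_dvd_of_pow_eq_one h')
    exact absurd this (not_le.2 (Nat.pow_lt_pow_right hp.one_lt (by omega)))
  let rel : Setoid α := orbitRel N α
  letI actQ : MulAction G (Quotient rel) :=
    { smul := fun z => Quotient.map' (z • ·) fun x y hxy => by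
        obtain ⟨⟨n, hn⟩, rfl⟩ := hxy
        refine ⟨⟨z * n * z⁻¹, normalClosure_normal.conj_mem n hn z⟩, ?_⟩
        show (z * n * z⁻¹) • (z • y) = z • (n • y)
        rw [← mul_smul, ← mul_smul, inv_mul_cancel_right]
      one_smul := fun x => Quotient.inductionOn' x fun x => by
        show Quotient.mk'' ((1 : G) • x) = _
        rw [one_smul]
      mul_smul := fun z w x => Quotient.inductionOn' x fun x => by
        show Quotient.mk'' ((z * w) • x) = Quotient.mk'' (z • (w • x))
        rw [mul_smul] }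
  have hmk : ∀ (z : G) (x : α), z • (Quotient.mk'' x : Quotient rel) = Quotient.mk'' (z • x) :=
    fun _ _ => rfl
  have hgQ : IsPretransitive (zpowers g) (Quotient rel) := ⟨fun x y => by
    induction x using Quotient.inductionOn' with
    | h x => induction y using Quotient.inductionOn' with
      | h y =>
        obtain ⟨z, hz⟩ := exists_smul_eq (zpowers g) x y
        exact ⟨z, by rw [Subgroup.smul_def, hmk]; exact congrArg _ hz⟩⟩
  -- the kernel
  set K := (MulAction.toPermHom G (Quotient rel)).ker with hK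
  set B : Set α := {x | (Quotient.mk'' x : Quotient rel) = Quotient.mk'' a} with hB
  set St := stabilizer G (Quotient.mk'' a : Quotient rel) with hSt
  have hStB : ∀ z ∈ St, ∀ x ∈ B, z • x ∈ B := fun z hz x hx => by
    show Quotient.mk'' (z • x) = _
    rw [← hmk, hx]; exact hz
  letI actB : MulAction St B :=
    { smul := fun z x => ⟨(z : G) • (x : α), hStB z z.2 x x.2⟩
      one_smul := fun x => Subtype.ext (one_smul G (x : α))
      mul_smul := fun z w x => Subtype.ext (mul_smul (z : G) (w : G) (x : α)) }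
  set ψ := MulAction.toPermHom St B with hψ
  obtain ⟨c, hc⟩ : ∃ c : St, (zpowers g ⊓ St).subgroupOf St = zpowers c := by
    have := Subgroup.isCyclic_of_le (inf_le_left : zpowers g ⊓ St ≤ zpowers g)
    have : IsCyclic ((zpowers g ⊓ St).subgroupOf St) := isCyclic_of_surjective
      (Subgroup.subgroupOfEquivOfLe (inf_le_right : zpowers g ⊓ St ≤ St)).symm
      (Subgroup.subgroupOfEquivOfLe inf_le_right).symm.surjective
    obtain ⟨c, hc⟩ := (Subgroup.isCyclic_iff_exists_zpowers_eq_top _).1 this
    exact ⟨c, hc.symm⟩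
  have hBtr : ∀ x y : B, ∃ k : ℤ, (ψ c) ^ k • x = y := by
    intro x y
    obtain ⟨⟨z, hz⟩, hzx⟩ := exists_smul_eq (zpowers g) (x : α) (y : α)
    have hzSt : z ∈ St := by
      show z • (Quotient.mk'' a : Quotient rel) = _
      rw [← x.2, hmk, show z • (x : α) = y from hzx]
      exact y.2.trans x.2.symm
    obtain ⟨k, hk⟩ : (⟨z, hzSt⟩ : St) ∈ zpowers c := hc ▸ (mem_subgroupOf.2 ⟨hz, hzSt⟩)
    refine ⟨k, ?_⟩
    rw [← map_zpow]
    refine Subtype.ext ?_
    show ((c ^ k : St) : G) • (x : α) = y
    rw [show ((c ^ k : St) : G) = z from congrArg Subtype.val hk]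
    exact hzx
  have hBlt : Nat.card B < p ^ m := by
    rw [← hcard, Nat.card_coe_set_eq, ← Set.ncard_univ]
    refine Set.ncard_lt_ncard (Set.ssubset_univ_iff.2 fun h => hNint ⟨fun x y => ?_⟩) Set.finite_univ
    have hx : (Quotient.mk'' x : Quotient rel) = Quotient.mk'' a := (h ▸ Set.mem_univ x : x ∈ B)
    have hy : (Quotient.mk'' y : Quotient rel) = Quotient.mk'' a := (h ▸ Set.mem_univ y : y ∈ B)
    obtain ⟨n, hn⟩ := Quotient.exact' (hy.trans hx.symm)
    exact ⟨n, hn⟩
  have haB : a ∈ B := rfl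
  have : Nonempty B := ⟨⟨a, haB⟩⟩
  have hcB : IsPretransitive (zpowers (⟨ψ c, c, rfl⟩ : ψ.range)) B := ⟨fun x y => by
    obtain ⟨k, hk⟩ := hBtr x y
    refine ⟨⟨(⟨ψ c, c, rfl⟩ : ψ.range) ^ k, k, rfl⟩, ?_⟩
    show (((⟨ψ c, c, rfl⟩ : ψ.range) ^ k : ψ.range) : Equiv.Perm B) • x = y
    rwa [SubgroupClass.coe_zpow]⟩
  obtain ⟨e, -, he⟩ : ∃ e ≤ m, Nat.card B = p ^ e := by
    refine (Nat.dvd_prime_pow hp).1 ((card_dvd_orderOf (⟨ψ c, c, rfl⟩ : ψ.range)).trans ?_)
    rw [← orderOf_coe, ← hord]
    refine (orderOf_map_dvd ψ c).trans ?_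
    have hcg : c ∈ (zpowers g ⊓ St).subgroupOf St := hc.ge (mem_zpowers c)
    rw [← orderOf_coe]
    exact orderOf_dvd_of_mem_zpowers (mem_subgroupOf.1 hcg).1
  have hem : e < m := (Nat.pow_lt_pow_iff_right hp.one_lt).1 (he ▸ hBlt)
  have hBsolv : Group.IsSolvable ψ.range := by
    refine ih e hem ψ.range B ⟨ψ c, c, rfl⟩ ?_ he
    exact hodd.of_dvd_nat ((card_range_dvd ψ).trans (card_subgroup_dvd_card St))
  have hKSt : K ≤ St := fun z hz => by
    show z • (Quotient.mk'' a : Quotient rel) = _
    have := congrArg (fun σ => σ (Quotient.mk'' a : Quotient rel)) (MonoidHom.mem_ker.1 hz)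
    simpa using this
  have hKsolv : Group.IsSolvable K := by
    obtain ⟨n, hn⟩ := hBsolv.solvable
    refine ⟨⟨n, ?_⟩⟩
    set D := (derivedSeries K n).map K.subtype with hD
    have hDn : D.Normal := by
      rw [hD]; infer_instance
    have hfix : ∀ z ∈ D, ∀ x ∈ B, z • x = x := by
      rintro _ ⟨z, hz, rfl⟩ x hx
      have h0 : (derivedSeries K n).map (ψ.rangeRestrict.comp (inclusion hKSt)) ≤
          derivedSeries ψ.range n := map_derivedSeries_le_derivedSeries _ n
      have h1 := h0 ⟨z, hz, rfl⟩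
      rw [hn, Subgroup.mem_bot] at h1
      have h2 := congrArg (fun σ : ψ.range => ((σ : Equiv.Perm B) ⟨x, hx⟩ : α)) h1
      exact h2
    refine eq_bot_iff.2 fun z hz => Subgroup.mem_bot.2 (Subtype.ext ?_)
    refine FaithfulSMul.eq_of_smul_eq_smul fun x : α => ?_
    obtain ⟨w, hw⟩ := exists_smul_eq G a x
    rw [← hw, OneMemClass.coe_one, one_smul]
    have h1 := hfix _ (hDn.conj_mem _ ⟨z, hz, rfl⟩ w⁻¹) a haB
    rw [inv_inv, mul_smul, mul_smul, inv_smul_eq_iff] at h1
    exact h1
  -- the quotient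
  obtain ⟨f, -, hf⟩ : ∃ f ≤ m, Nat.card (Quotient rel) = p ^ f :=
    (Nat.dvd_prime_pow hp).1 (hord ▸ (haveI : Nonempty (Quotient rel) := ⟨Quotient.mk'' a⟩
      card_dvd_orderOf g))
  have hflt : f < m := by
    refine (Nat.pow_lt_pow_iff_right hp.one_lt).1 ?_
    rw [← hf, ← hcard]
    refine lt_of_le_of_ne (Nat.card_le_card_of_surjective _ (Quotient.mk''_surjective (s₁ := rel)))
      fun heq => ha ?_
    have hinj : Function.Injective (Quotient.mk'' : α → Quotient rel) :=
      (((Nat.bijective_iff_surjective_and_card _).2 ⟨Quotient.mk''_surjective, heq.symm⟩)).1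
    exact hinj (Quotient.sound' ⟨⟨_, subset_normalClosure (Set.mem_singleton _)⟩, rfl⟩)
  set J := (MulAction.toPermHom G (Quotient rel)).range with hJ
  have hgJ : IsPretransitive (zpowers (⟨MulAction.toPermHom G (Quotient rel) g, g, rfl⟩ : J))
      (Quotient rel) := ⟨fun x y => by
    obtain ⟨⟨z, ⟨k, rfl⟩⟩, hz⟩ := exists_smul_eq (zpowers g) x y
    refine ⟨⟨_, k, rfl⟩, ?_⟩
    show (((⟨MulAction.toPermHom G (Quotient rel) g, g, rfl⟩ : J) ^ k : J) :
      Equiv.Perm (Quotient rel)) • x = y
    rw [SubgroupClass.coe_zpow, ← map_zpow]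
    exact hz⟩
  have hJsolv : Group.IsSolvable J := ih f hflt J (Quotient rel)
    ⟨MulAction.toPermHom G (Quotient rel) g, g, rfl⟩ (hodd.of_dvd_nat (card_range_dvd _)) hf
  exact solvable_of_ker_le_range K.subtype (MulAction.toPermHom G (Quotient rel)).rangeRestrict
    (by rw [MonoidHom.ker_rangeRestrict, range_subtype])

theorem solvable_of_cyclic_transitive {p : ℕ} (hp : p.Prime) (m : ℕ) {G : Type u} [Group G]
    [Finite G] {α : Type v} [Finite α] [MulAction G α] [FaithfulSMul G α] (g : G)
    [hg : IsPretransitive (zpowers g) α] (hodd : Odd (Nat.card G)) (hcard : Nat.card α = p ^ m) :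
    Group.IsSolvable G := by
  set φ := MulAction.toPermHom G α with hφ
  have hφi : Function.Injective φ := MulAction.toPerm_injective
  have : IsPretransitive (zpowers (⟨φ g, g, rfl⟩ : φ.range)) α := ⟨fun x y => by
    obtain ⟨⟨z, ⟨k, rfl⟩⟩, hz⟩ := exists_smul_eq (zpowers g) x y
    refine ⟨⟨_, k, rfl⟩, ?_⟩
    show (((⟨φ g, g, rfl⟩ : φ.range) ^ k : φ.range) : Equiv.Perm α) • x = y
    rw [SubgroupClass.coe_zpow, ← map_zpow]
    exact hz⟩
  have h : Group.IsSolvable φ.range := solvable_aux hp m φ.range α ⟨φ g, g, rfl⟩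
    (by rwa [Nat.card_congr (MonoidHom.ofInjective hφi).toEquiv.symm]) hcard
  exact solvable_of_solvable_injective (f := (MonoidHom.ofInjective hφi).toMonoidHom)
    (MonoidHom.ofInjective hφi).injective

end Cfsg.Agent.QBaer
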