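import Cfsg.Agent.QBaer.Structure

/-!
# Solvability of a `q`-Baer group modulo its `q'`-core
-/

set_option autoImplicit false

namespace Cfsg.Agent.QBaer

open Subgroup

variable {G : Type*} [Group G] [Finite G] {q : ℕ}

/-- With trivial `q'`-core, a normal abelian Sylow `q`-subgroup is self-centralising. -/
theorem centralizer_le_of_pPrimeCore_eq_bot [hq : Fact q.Prime] (hO : Cfsg.pPrimeCore q G = ⊥)
    (Q : Sylow q G) [(Q : Subgroup G).Normal]
    (hab : ∀ a ∈ (Q : Subgroup G), ∀ b ∈ (Q : Subgroup G), a * b = b * a) :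
    centralizer ((Q : Subgroup G) : Set G) ≤ (Q : Subgroup G) := by
  set C := centralizer ((Q : Subgroup G) : Set G) with hC
  have hle : (Q : Subgroup G) ≤ C := fun a ha => mem_centralizer_iff.2 fun b hb => hab b hb a ha
  set P : Sylow q C := Q.subtype hle with hP
  have hPc : normalizer ((P : Subgroup C) : Set C) ≤ centralizer ((P : Subgroup C) : Set C) := by
    intro c _
    refine mem_centralizer_iff.2 fun b hb => Subtype.ext ?_
    exact mem_centralizer_iff.1 c.2 b.1 hb
  have hK := MonoidHom.ker_transferSylow_isComplement' P hPc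
  set K := (MonoidHom.transferSylow P hPc).ker with hKdef
  have hKcop : (Nat.card K).Coprime q := by
    rw [← hK.index_eq_card]
    exact (hq.out.coprime_iff_not_dvd.2 P.not_dvd_index).symm
  have hK1 : K ≤ Cfsg.pPrimeCore q C := Core.le_pPrimeCore hKcop
  have := Core.map_pPrimeCore_normal (p := q) C
  have hb : (Cfsg.pPrimeCore q C).map C.subtype ≤ ⊥ := hO ▸ Core.le_pPrimeCore (by
    rw [card_map_of_injective C.subtype_injective]; exact Core.coprime_card_pPrimeCore)
  rw [le_bot_iff, map_eq_bot_iff_of_injective _ C.subtype_injective] at hb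
  have hKbot : K = ⊥ := le_bot_iff.1 (hb ▸ hK1)
  rw [hKbot, isComplement'_bot_left] at hK
  intro c hc
  have : (⟨c, hc⟩ : C) ∈ (P : Subgroup C) := hK ▸ mem_top _
  exact this

/-- Conjugation on a normal abelian subgroup as an endomorphism of the additive group. -/
noncomputable def conjEnd (W : Subgroup G) [W.Normal] :
    G →* AddMonoid.End (Additive W) where
  toFun g :=
    { toFun := fun (u : Additive W) => Additive.ofMul (MulAut.conjNormal g (Additive.toMul u) : W)
      map_zero' := by
        apply congrArg Additive.ofMul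
        exact map_one (MulAut.conjNormal g)
      map_add' := fun u v => by
        apply congrArg Additive.ofMul
        exact map_mul (MulAut.conjNormal g) (Additive.toMul u) (Additive.toMul v) }
  map_one' := AddMonoidHom.ext fun u => congrArg Additive.ofMul
    (show (MulAut.conjNormal (1 : G)) (Additive.toMul u) = Additive.toMul u by
      rw [map_one]; rfl)
  map_mul' g h := AddMonoidHom.ext fun u => congrArg Additive.ofMul
    (show (MulAut.conjNormal (g * h)) (Additive.toMul u) =
        MulAut.conjNormal g (MulAut.conjNormal h (Additive.toMul u)) by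
      rw [map_mul]; rfl)

theorem coe_conjEnd (W : Subgroup G) [W.Normal] (g : G) (u : Additive W) :
    ((Additive.toMul (conjEnd W g u) : W) : G) = g * ((Additive.toMul u : W) : G) * g⁻¹ :=
  MulAut.conjNormal_apply g _

theorem mem_ker_conjEnd (W : Subgroup G) [W.Normal] {g : G} :
    g ∈ (conjEnd W).ker ↔ ∀ u ∈ W, g * u * g⁻¹ = u := by
  rw [MonoidHom.mem_ker]
  constructor
  · intro h u hu
    have := coe_conjEnd W g (Additive.ofMul (⟨u, hu⟩ : W))
    rw [h] at this
    exact this.symm
  · intro h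
    refine AddMonoidHom.ext fun u => Additive.toMul.injective (Subtype.ext ?_)
    exact (coe_conjEnd W g u).trans (h _ (Additive.toMul u).2)

/-- The orbit theorem for a homomorphism into the endomorphisms of an abelian group. -/
theorem solvable_quot_of_end [hq : Fact q.Prime] {A : Type*} [AddCommGroup A] [Finite A]
    (f : G →* AddMonoid.End A) (hexp : ∀ v : A, q • v = 0) (hcop : ¬ q ∣ f.ker.index)
    {p : ℕ} (hp : p.Prime) (hpq : p ≠ q)
    (hidx : ∀ v : A, ∃ (K : Subgroup G) (a : ℕ), (∀ g, g ∈ K ↔ f g v = v) ∧ K.index = p ^ a) :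
    Group.IsSolvable (G ⧸ f.ker) := by
  letI : DistribMulAction (G ⧸ f.ker) A :=
    DistribMulAction.compHom A (QuotientGroup.lift f.ker f le_rfl)
  refine solvable_of_orbits _ p q (G ⧸ f.ker) A le_rfl
    ⟨hp, hq.out, hpq, hexp, by rwa [← index_eq_card], fun v => ?_⟩ fun h hh => ?_
  · obtain ⟨K, a, hK, ha⟩ := hidx v
    refine ⟨a, ?_⟩
    rw [Nat.card_coe_set_eq, ← MulAction.index_stabilizer,
      ← index_comap_of_surjective _ (QuotientGroup.mk'_surjective f.ker), ← ha]
    congr 1
    ext g
    rw [mem_comap, MulAction.mem_stabilizer_iff, hK]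
    exact Iff.rfl
  · obtain ⟨g, rfl⟩ := QuotientGroup.mk'_surjective f.ker h
    exact (QuotientGroup.eq_one_iff g).2 (MonoidHom.mem_ker.2 (AddMonoidHom.ext fun v => hh v))

/-- The orbit theorem applied to a normal elementary abelian `q`-subgroup. -/
theorem solvable_quot_ker [hq : Fact q.Prime] (W : Subgroup G) [W.Normal] [IsMulCommutative W]
    (hexp : ∀ u ∈ W, u ^ q = 1) (hcop : ¬ q ∣ (conjEnd W).ker.index) {p : ℕ} (hp : p.Prime)
    (hpq : p ≠ q) (hidx : ∀ u ∈ W, ∃ a, (centralizer ({u} : Set G)).index = p ^ a) :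
    Group.IsSolvable (G ⧸ (conjEnd W).ker) := by
  letI : CommGroup W :=
    { (inferInstance : Group W) with
      mul_comm := fun a b => IsMulCommutative.is_comm.comm a b }
  refine solvable_quot_of_end (A := Additive W) (conjEnd W) (fun v => ?_) hcop hp hpq fun v => ?_
  · exact congrArg Additive.ofMul
      (Subtype.ext (hexp _ (Additive.toMul v).2) : (Additive.toMul v : W) ^ q = 1)
  · obtain ⟨a, ha⟩ := hidx _ (Additive.toMul v).2
    refine ⟨_, a, fun g => ?_, ha⟩
    rw [mem_centralizer_singleton_iff, ← mul_inv_eq_iff_eq_mul]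
    refine ⟨fun h => Additive.toMul.injective (Subtype.ext ((coe_conjEnd W g v).trans h)),
      fun h => (coe_conjEnd W g v).symm.trans ?_⟩
    exact congrArg (fun e : Additive W => ((Additive.toMul e : W) : G)) h

/-- The group is solvable modulo its `q'`-core. -/
theorem solvable_of_trivial_core [hq : Fact q.Prime] (hO : Cfsg.pPrimeCore q G = ⊥)
    (Q : Sylow q G) [(Q : Subgroup G).Normal]
    (hab : ∀ a ∈ (Q : Subgroup G), ∀ b ∈ (Q : Subgroup G), a * b = b * a)
    {p : ℕ} (hp : p.Prime) (hpq : p ≠ q)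
    (hidx : ∀ x : G, (∃ k, orderOf x = q ^ k) → ∃ a, (centralizer ({x} : Set G)).index = p ^ a) :
    Group.IsSolvable G := by
  have : IsMulCommutative (Q : Subgroup G) :=
    ⟨⟨fun a b => Subtype.ext (hab a a.2 b b.2)⟩⟩
  let Ω : Subgroup G :=
    { carrier := {u | u ∈ (Q : Subgroup G) ∧ u ^ q = 1}
      one_mem' := ⟨one_mem _, one_pow q⟩
      mul_mem' := fun {a b} ha hb => ⟨mul_mem ha.1 hb.1, by
        rw [(show Commute a b from hab a ha.1 b hb.1).mul_pow, ha.2, hb.2, one_mul]⟩
      inv_mem' := fun {a} ha => ⟨inv_mem ha.1, by rw [inv_pow, ha.2, inv_one]⟩ }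
  have hΩn : Ω.Normal := ⟨fun u hu g =>
    ⟨(inferInstance : (Q : Subgroup G).Normal).conj_mem u hu.1 g, by
      rw [conj_pow, hu.2, mul_one, mul_inv_cancel]⟩⟩
  have : IsMulCommutative Ω := ⟨⟨fun a b => Subtype.ext (hab a a.2.1 b b.2.1)⟩⟩
  set M := (conjEnd Ω).ker with hM
  -- the kernel is `Q`
  have hQM : (Q : Subgroup G) ≤ M := fun g hg => (mem_ker_conjEnd Ω).2 fun u hu => by
    rw [hab g hg u hu.1, mul_inv_cancel_right]
  have hMq : IsPGroup q M := by
    refine IsPGroup.of_card (n := (Nat.card M).primeFactorsList.length)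
      (Nat.eq_prime_pow_of_unique_prime_dvd Nat.card_pos.ne' fun {l} hl hld => ?_)
    by_contra hlq
    have := Fact.mk hl
    obtain ⟨g, hg⟩ := exists_prime_orderOf_dvd_card' l hld
    rw [← orderOf_coe] at hg
    obtain ⟨n, hn⟩ := IsPGroup.iff_card.1 Q.isPGroup'
    have hnorm : zpowers (g : G) ≤ normalizer ((Q : Subgroup G) : Set G) := by
      rw [normalizer_eq_top]; exact le_top
    have hcz : zpowers (g : G) ≤ centralizer ((Q : Subgroup G) : Set G) := by
      refine Coprime.le_centralizer_of_fixes_prime_order hnorm ?_ ?_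
      · rw [Nat.card_zpowers, hg, hn]
        exact ((Nat.coprime_primes hl hq.out).2 hlq).pow_right n
      · intro v hv hvp a ha
        have hvq : orderOf v = q := by
          obtain ⟨k, hk⟩ := IsPGroup.iff_orderOf.1 Q.isPGroup' ⟨v, hv⟩
          rw [orderOf_mk] at hk
          exact (Nat.prime_dvd_prime_iff_eq hvp hq.out).1 (hvp.dvd_of_dvd_pow hk.dvd)
        exact mul_inv_eq_iff_eq_mul.1 ((mem_ker_conjEnd Ω).1 (zpowers_le.2 g.2 ha) v
          ⟨hv, hvq ▸ pow_orderOf_eq_one v⟩)
    have hgQ := centralizer_le_of_pPrimeCore_eq_bot hO Q hab (hcz (mem_zpowers _))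
    obtain ⟨k, hk⟩ := IsPGroup.iff_orderOf.1 Q.isPGroup' ⟨_, hgQ⟩
    rw [orderOf_mk, hg] at hk
    exact hlq ((Nat.prime_dvd_prime_iff_eq hl hq.out).1 (hl.dvd_of_dvd_pow hk.dvd))
  have hsol : Group.IsSolvable (G ⧸ M) :=
    solvable_quot_ker Ω (fun u hu => hu.2)
      (fun hd => Q.not_dvd_index (hd.trans (index_dvd_of_le hQM))) hp hpq fun u hu => by
        obtain ⟨k, hk⟩ := IsPGroup.iff_orderOf.1 Q.isPGroup' ⟨u, hu.1⟩
        exact hidx u ⟨k, by rw [← hk, orderOf_mk]⟩
  have := hMq.isNilpotent
  exact Group.isSolvable_of_ker_le_range M.subtype (QuotientGroup.mk' M)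
    (by rw [QuotientGroup.ker_mk', range_subtype])

end Cfsg.Agent.QBaer
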