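import Cfsg.Agent.QBaer.OrbitBasic

/-!
# A semiregular quaternion Sylow 2-subgroup
-/

set_option autoImplicit false

namespace Cfsg.Agent.QBaer

open MulAction Subgroup

universe u v

variable {p q : ℕ} {H : Type u} [Group H] [Finite H] {V : Type v} [AddCommGroup V] [Finite V]
  [DistribMulAction H V]

/-- An element outside a finite subfield whose trace and norm lie in it. -/
theorem frobenius_norm_one {K : Type*} [CommRing K] [IsDomain K] [Finite K] {q : ℕ} [hq : Fact q.Prime]
    [CharP K q] (K0 : Subring K) {X X' : K} (hXX' : X * X' = 1) (hc : X + X' ∈ K0) (hX : X ∉ K0) :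
    ∃ f : ℕ, 1 ≤ f ∧ Nat.card K0 = q ^ f ∧ X ^ (q ^ f + 1) = 1 := by
  classical
  have : Fintype K0 := Fintype.ofFinite _
  letI : Field K0 := Fintype.fieldOfDomain K0
  have : CharP K0 q := (CharP.charP_iff_prime_eq_zero hq.out).2
    (Subtype.ext (by simp))
  obtain ⟨f, -, hfcard⟩ := FiniteField.card K0 q
  set Q := q ^ (f : ℕ) with hQ
  have hpow : ∀ w : K0, (w : K) ^ Q = w := fun w => by
    have := congrArg Subtype.val (FiniteField.pow_card w)
    rwa [hfcard] at this
  refine ⟨f, f.2, by rw [Nat.card_eq_fintype_card, hfcard], ?_⟩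
  have hcQ : X ^ Q + X' ^ Q = X + X' := by
    have := hpow ⟨_, hc⟩
    simp only [hQ, add_pow_char_pow] at this
    exact this
  have hne : X ^ Q ≠ X := by
    intro e
    have hQ1 : 1 < Q := Nat.one_lt_pow f.ne_zero hq.out.one_lt
    have hdegQ : (Polynomial.X ^ Q - Polynomial.X : Polynomial K).natDegree = Q := by
      rw [Polynomial.natDegree_sub_eq_left_of_natDegree_lt (by
        rw [Polynomial.natDegree_X, Polynomial.natDegree_X_pow]; exact hQ1),
        Polynomial.natDegree_X_pow]
    have hne0 : (Polynomial.X ^ Q - Polynomial.X : Polynomial K) ≠ 0 :=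
      Polynomial.ne_zero_of_natDegree_gt (n := 1) (by rw [hdegQ]; exact hQ1)
    have hroots : ((Finset.univ : Finset K0).image (fun y : K0 => (y : K))) ∪ {X} ⊆
        ((Polynomial.X ^ Q - Polynomial.X : Polynomial K).roots.toFinset) := by
      intro y hy
      rw [Multiset.mem_toFinset, Polynomial.mem_roots hne0, Polynomial.IsRoot.def,
        Polynomial.eval_sub, Polynomial.eval_pow, Polynomial.eval_X, sub_eq_zero]
      rcases Finset.mem_union.1 hy with hy | hy
      · obtain ⟨w, -, rfl⟩ := Finset.mem_image.1 hy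
        exact hpow w
      · rw [Finset.mem_singleton.1 hy]; exact e
    have hcard := (Finset.card_le_card hroots).trans (Multiset.toFinset_card_le _)
    have hdeg := Polynomial.card_roots' (Polynomial.X ^ Q - Polynomial.X : Polynomial K)
    rw [hdegQ] at hdeg
    rw [Finset.card_union_of_disjoint (by simp [hX]),
      Finset.card_image_of_injective _ Subtype.coe_injective, Finset.card_univ,
      Finset.card_singleton, hfcard] at hcard
    omega
  have hX'Q : X ^ Q * X' ^ Q = 1 := by rw [← mul_pow, hXX', one_pow]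
  have h0 : (X ^ Q - X) * (X ^ Q * X - 1) = 0 := by
    linear_combination (X * X ^ Q) * hcQ - X * hX'Q + X ^ Q * hXX'
  rw [pow_succ]
  exact sub_eq_zero.1 ((mul_eq_zero.1 h0).resolve_left (sub_ne_zero.2 hne))

set_option maxHeartbeats 1000000 in
omit [Finite H] in
/-- A cyclic group irreducible on `V` and inverted by `b` has order dividing `q ^ f + 1` with
`q ^ (2 f) ≤ |V|`. -/
theorem exists_dvd_of_irreducible [Nontrivial V] (hq : q.Prime) (hexp : ∀ v : V, q • v = 0)
    (hf : Faith H V) {a b : H} (hab : b * a * b⁻¹ = a⁻¹) (ha2 : a * a ≠ 1) (hfin : IsOfFinOrder a)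
    (hirr : ∀ U : AddSubgroup V, (∀ u ∈ U, a • u ∈ U) → U = ⊥ ∨ U = ⊤) :
    ∃ f : ℕ, 1 ≤ f ∧ orderOf a ∣ q ^ f + 1 ∧ q ^ (2 * f) ≤ Nat.card V := by
  classical
  have : Fact q.Prime := ⟨hq⟩
  have : Finite (AddMonoid.End V) :=
    Finite.of_injective (fun f : AddMonoid.End V => (f : V → V)) DFunLike.coe_injective
  let ρ := DistribMulAction.toAddMonoidEnd H V
  have hρ : ∀ g v, ρ g v = g • v := fun _ _ => rfl
  set x := ρ a with hx
  set x' := ρ a⁻¹ with hx'
  set B := ρ b with hB
  have hxx' : x * x' = 1 := by rw [hx, hx', ← map_mul, mul_inv_cancel, map_one]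
  have hx'mem : x' ∈ Subring.closure ({x} : Set (AddMonoid.End V)) := by
    obtain ⟨k, hk⟩ := hfin.mem_powers_iff_mem_zpowers.2 (inv_mem (mem_zpowers a))
    rw [hx', ← hk]
    show ρ (a ^ k) ∈ _
    rw [map_pow]
    exact pow_mem (Subring.subset_closure (Set.mem_singleton _)) k
  set K := Subring.closure ({x} : Set (AddMonoid.End V)) with hK
  have hKx : ∀ y ∈ K, Commute y x := fun y hy => by
    have := Subring.closure_le.2 (show ({x} : Set (AddMonoid.End V)) ⊆
      (Subring.centralizer {x} : Subring _) by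
        rintro z rfl
        exact Subring.mem_centralizer_iff.2 fun g hg => by rw [Set.mem_singleton_iff.1 hg]) hy
    exact (Subring.mem_centralizer_iff.1 this x rfl).symm
  have hcomm : ∀ y ∈ K, ∀ y' ∈ K, y * y' = y' * y := fun y hy y' hy' => by
    have h1 := Subring.closure_le_centralizer_centralizer _ hy
    refine (Subring.mem_centralizer_iff.1 h1 y' ?_).symm
    exact Subring.mem_centralizer_iff.2 fun g hg => by
      rw [Set.mem_singleton_iff.1 hg]; exact (hKx y' hy').symm
  letI : CommRing K :=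
    { (inferInstance : Ring K) with
      mul_comm := fun y y' => Subtype.ext (hcomm y y.2 y' y'.2) }
  have hinj : ∀ y ∈ K, ∀ v : V, v ≠ 0 → y v = 0 → y = 0 := by
    intro y hy v hv hyv
    have hinv : ∀ u ∈ AddMonoidHom.ker (y : V →+ V), a • u ∈ AddMonoidHom.ker (y : V →+ V) := by
      intro u hu
      change y (a • u) = 0
      change y u = 0 at hu
      have e := congrArg (fun f : AddMonoid.End V => f u) (hKx y hy).eq
      show y (a • u) = 0
      have e' : y (x u) = x (y u) := e
      rw [hρ] at e'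
      rw [e', hu, map_zero]
    rcases hirr _ hinv with h | h
    · exact absurd (AddSubgroup.mem_bot.1 (h ▸ (hyv : v ∈ AddMonoidHom.ker (y : V →+ V)))) hv
    · exact DFunLike.ext _ _ fun u =>
        (AddMonoidHom.mem_ker.1 (h ▸ AddSubgroup.mem_top u : u ∈ AddMonoidHom.ker (y : V →+ V)))
  obtain ⟨v₀, hv₀⟩ := exists_ne (0 : V)
  have : Nontrivial K := ⟨0, 1, fun e => hv₀ (by
    have := congrArg (fun f : K => (f : AddMonoid.End V) v₀) e
    simpa using this.symm)⟩
  have : NoZeroDivisors K := ⟨fun {y y'} h => by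
    by_cases hy' : y' = 0
    · exact Or.inr hy'
    · left
      obtain ⟨u, hu⟩ : ∃ u, (y' : AddMonoid.End V) u ≠ 0 := by
        by_contra! hall
        exact hy' (Subtype.ext (DFunLike.ext _ _ fun u => hall u))
      exact Subtype.ext (hinj y y.2 _ hu (congrArg (fun f : K => (f : AddMonoid.End V) u) h))⟩
  have : IsDomain K := NoZeroDivisors.to_isDomain K
  let K0 : Subring K :=
    { carrier := {y | (y : AddMonoid.End V) * B = B * (y : AddMonoid.End V)}
      zero_mem' := by simp
      one_mem' := by simp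
      add_mem' := fun {y y'} (h1 : _ = _) (h2 : _ = _) => by
        show ((y : AddMonoid.End V) + y') * B = B * ((y : AddMonoid.End V) + y')
        rw [add_mul, mul_add, h1, h2]
      mul_mem' := fun {y y'} (h1 : _ = _) (h2 : _ = _) => by
        show ((y : AddMonoid.End V) * y') * B = B * ((y : AddMonoid.End V) * y')
        rw [mul_assoc, h2, ← mul_assoc, h1, mul_assoc]
      neg_mem' := fun {y} (h1 : _ = _) => by
        show (-(y : AddMonoid.End V)) * B = B * (-(y : AddMonoid.End V))
        rw [neg_mul, mul_neg, h1] }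
  set X : K := ⟨x, Subring.subset_closure (Set.mem_singleton _)⟩ with hX
  set X' : K := ⟨x', hx'mem⟩ with hX'
  have hXX' : X * X' = 1 := Subtype.ext hxx'
  have hBx : B * x = x' * B := by
    have e : b * a = a⁻¹ * b := by rw [← hab]; group
    rw [hB, hx, hx', ← map_mul, ← map_mul, e]
  have hBx' : B * x' = x * B := by
    have h1 : b * a⁻¹ * b⁻¹ = a := by
      have := congrArg (·⁻¹) hab
      simpa [mul_assoc] using this
    have e : b * a⁻¹ = a * b := mul_inv_eq_iff_eq_mul.1 h1
    rw [hB, hx, hx', ← map_mul, ← map_mul, e]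
  have hc : X + X' ∈ K0 := by
    show (x + x') * B = B * (x + x')
    rw [add_mul, mul_add, hBx, hBx', add_comm]
  have hqK : ((q : ℕ) : K) = 0 := Subtype.ext (DFunLike.ext _ _ fun u => by
    show (((q : K) : AddMonoid.End V)) u = 0
    rw [SubringClass.coe_natCast, AddMonoid.End.natCast_apply]
    exact hexp u)
  have : CharP K q := (CharP.charP_iff_prime_eq_zero hq).2 hqK
  have hXnot : X ∉ K0 := by
    intro hmem
    refine ha2 (hf _ fun v => ?_)
    have h1 : x * B = B * x := hmem
    rw [hBx] at h1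
    have hu : B * ρ b⁻¹ = 1 := by rw [hB, ← map_mul, mul_inv_cancel, map_one]
    have h2 : x = x' := by
      calc x = x * (B * ρ b⁻¹) := by rw [hu, mul_one]
        _ = x' * (B * ρ b⁻¹) := by rw [← mul_assoc, h1, mul_assoc]
        _ = x' := by rw [hu, mul_one]
    have h3 : x * x = 1 := by nth_rewrite 2 [h2]; exact hxx'
    have h4 := congrArg (fun g : AddMonoid.End V => g v) h3
    rw [mul_smul]
    exact h4
  obtain ⟨f, hf1, hfcard, h1⟩ := frobenius_norm_one (q := q) K0 hXX' hc hXnot
  refine ⟨f, hf1, ?_, ?_⟩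
  · refine orderOf_dvd_of_pow_eq_one (hf _ fun v => ?_)
    have h2 := congrArg (fun g : K => (g : AddMonoid.End V) v) h1
    simp only [SubmonoidClass.coe_pow, hX, hx, ← map_pow] at h2
    exact h2
  · have hinj2 : Function.Injective fun w : K0 × K0 => (w.1 : K) + (w.2 : K) * X := by
      rintro ⟨y₁, z₁⟩ ⟨y₂, z₂⟩ e
      have e0 : ((z₁ - z₂ : K0) : K) * X = ((y₂ - y₁ : K0) : K) := by
        push_cast
        linear_combination e
      have hz : z₁ - z₂ = 0 := by
        by_contra hz
        set y := ((z₁ - z₂ : K0) : K) with hy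
        have hyB : (y : AddMonoid.End V) * B = B * y := (z₁ - z₂).2
        have h1 : ((y * X : K) : AddMonoid.End V) * B = B * ((y * X : K) : AddMonoid.End V) := by
          rw [e0]; exact (y₂ - y₁).2
        have h2 : ((y * X : K) : AddMonoid.End V) * B = ((y * X' : K) : AddMonoid.End V) * B := by
          rw [h1]
          show B * ((y : AddMonoid.End V) * x) = (y : AddMonoid.End V) * x' * B
          rw [← mul_assoc, ← hyB, mul_assoc, hBx, mul_assoc]
        have hu : B * ρ b⁻¹ = 1 := by rw [hB, ← map_mul, mul_inv_cancel, map_one]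
        have h3 : y * X = y * X' := by
          refine Subtype.ext ?_
          have := congrArg (· * ρ b⁻¹) h2
          simpa [mul_assoc, hu] using this
        have h4 : X = X' := mul_left_cancel₀ (fun h => hz (Subtype.ext h)) h3
        refine ha2 (hf _ fun v => ?_)
        have h5 : x * x = 1 := by
          nth_rewrite 2 [show x = x' from congrArg Subtype.val h4]; exact hxx'
        rw [mul_smul]
        exact congrArg (fun g : AddMonoid.End V => g v) h5
      have hy : y₁ = y₂ := by
        rw [hz, ZeroMemClass.coe_zero, zero_mul, eq_comm, ZeroMemClass.coe_eq_zero, sub_eq_zero] at e0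
        exact e0.symm
      rw [hy, sub_eq_zero.1 hz]
    have hev : Function.Injective fun y : K => (y : AddMonoid.End V) v₀ := by
      intro y y' e
      refine sub_eq_zero.1 (Subtype.ext (hinj _ (y - y').2 v₀ hv₀ ?_))
      show (y : AddMonoid.End V) v₀ - (y' : AddMonoid.End V) v₀ = 0
      exact sub_eq_zero.2 e
    have := Nat.card_le_card_of_injective _ (hev.comp hinj2)
    rw [Nat.card_prod, hfcard, ← pow_add] at this
    rwa [two_mul]

omit [Finite V] in
/-- A subgroup fixing no nonzero vector of a module of order `q ^ 2` and with trivial determinant. -/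
theorem det_trick [Finite V] (h : OrbHyp p q H V) (hp2 : p = 2) (hf : Faith H V)
    (hcard : Nat.card V = q ^ 2) : Group.IsSolvable H := by
  classical
  have := Fact.mk h.hq
  obtain ⟨hmod⟩ : Nonempty (Module (ZMod q) V) := ⟨AddCommGroup.zmodModule h.exp⟩
  have : Module.Finite (ZMod q) V := Module.Finite.of_finite
  have hrank : Module.finrank (ZMod q) V = 2 := by
    have := Module.natCard_eq_pow_finrank (K := ZMod q) (V := V)
    rw [Nat.card_zmod, hcard] at this
    exact (Nat.pow_right_injective h.hq.two_le this).symm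
  let bas : Module.Basis (Fin 2) (ZMod q) V := Module.finBasisOfFinrankEq (ZMod q) V hrank
  let ρ : H →* Module.End (ZMod q) V :=
    { toFun := fun g => AddMonoidHom.toZModLinearMap q (DistribSMul.toAddMonoidHom V g)
      map_one' := LinearMap.ext fun v => one_smul H v
      map_mul' := fun g k => LinearMap.ext fun v => mul_smul g k v }
  let μ : H →* Matrix (Fin 2) (Fin 2) (ZMod q) :=
    (LinearMap.toMatrixAlgEquiv bas).toAlgHom.toMonoidHom.comp ρ
  have hμ : ∀ g v, (μ g).mulVec (bas.repr v) = bas.repr (g • v) := fun g v => by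
    show (LinearMap.toMatrix bas bas (ρ g)).mulVec (bas.repr v) = _
    rw [LinearMap.toMatrix_mulVec_repr]
    rfl
  let δ : H →* (ZMod q)ˣ := ((Matrix.detMonoidHom).comp μ).toHomUnits
  have hδ : ∀ g, (δ g : ZMod q) = (μ g).det := fun _ => rfl
  have hfree : ∀ g ∈ δ.ker, ∀ v : V, v ≠ 0 → g • v = v → g = 1 := by
    intro g hg v hv hgv
    have hdet : (μ g).det = 1 := by rw [← hδ, MonoidHom.mem_ker.1 hg, Units.val_one]
    have hdet0 : (μ g - 1).det = 0 := by
      refine Matrix.exists_mulVec_eq_zero_iff.1 ⟨bas.repr v, ?_, ?_⟩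
      · intro e
        refine hv (bas.repr.injective ?_)
        rw [map_zero]
        exact DFunLike.coe_injective e
      · rw [Matrix.sub_mulVec, Matrix.one_mulVec, hμ, hgv, sub_self]
    set N := μ g - 1 with hNdef
    have hμN : μ g = 1 + N := by rw [hNdef, add_sub_cancel]
    have hNN : N * N = 0 := by
      have h1 : N 0 0 * N 1 1 - N 0 1 * N 1 0 = 0 := by rw [← Matrix.det_fin_two]; exact hdet0
      have h2 : (1 + N 0 0) * (1 + N 1 1) - N 0 1 * N 1 0 = 1 := by
        have := hdet
        rw [hμN, Matrix.det_fin_two] at this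
        simpa [Matrix.one_apply] using this
      have htr : N 0 0 + N 1 1 = 0 := by linear_combination h2 - h1
      ext i j
      fin_cases i <;> fin_cases j <;>
        simp only [Matrix.mul_apply, Fin.sum_univ_two, Matrix.zero_apply, Fin.isValue,
          Fin.zero_eta, Fin.mk_one]
      · linear_combination N 0 0 * htr - h1
      · linear_combination N 0 1 * htr
      · linear_combination N 1 0 * htr
      · linear_combination N 1 1 * htr - h1
    have hpow : ∀ k : ℕ, (μ g) ^ k = 1 + (k : Matrix (Fin 2) (Fin 2) (ZMod q)) * N := by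
      intro k
      induction k with
      | zero => simp
      | succ k ih =>
        rw [pow_succ, ih, hμN]
        simp only [add_mul, mul_add, one_mul, mul_one, Nat.cast_succ, mul_assoc, hNN, mul_zero]
        abel
    have hgq : g ^ q = 1 := hf _ fun u => by
      refine bas.repr.injective (DFunLike.coe_injective ?_)
      rw [← hμ, map_pow, hpow, CharP.cast_eq_zero, zero_mul, add_zero, Matrix.one_mulVec]
    rcases (Nat.dvd_prime h.hq).1 (orderOf_dvd_of_pow_eq_one hgq) with h1 | h1
    · exact orderOf_eq_one_iff.1 h1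
    · exact absurd (h1 ▸ orderOf_dvd_natCard g) h.cop
  have hker : Group.IsSolvable δ.ker := by
    obtain ⟨v, hv⟩ : ∃ v : V, v ≠ 0 := by
      have : Nontrivial V := Finite.one_lt_card_iff_nontrivial.1 (by
        rw [hcard]; exact Nat.one_lt_pow two_ne_zero h.hq.one_lt)
      exact exists_ne 0
    obtain ⟨k, hk⟩ := (h.of_normal δ.ker).orb v
    have hst : stabilizer δ.ker v = ⊥ := (eq_bot_iff_forall _).2 fun g hg =>
      Subtype.ext (hfree g g.2 v hv hg)
    have hc : Nat.card δ.ker = 2 ^ k := by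
      rw [← hp2, ← hk, Nat.card_coe_set_eq, ← index_stabilizer, hst, index_bot]
    have : Fact (Nat.Prime 2) := ⟨Nat.prime_two⟩
    have := (IsPGroup.of_card hc).isNilpotent
    infer_instance
  exact solvable_of_ker_le_range δ.ker.subtype δ (by rw [range_subtype])

/-- A semiregular quaternion Sylow 2-subgroup, irreducible on `V`. -/
theorem solvable_of_quaternion (h : OrbHyp p q H V) (hf : Faith H V) (hN : SolvNormal H)
    [Nontrivial V] (hp2 : p = 2) (P : Sylow p H) (hirr : Irr (P : Subgroup H) V)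
    (semi : ∀ π ∈ (P : Subgroup H), π ≠ 1 → ∀ v : V, π • v = v → v = 0)
    {a b : H} (haP : a ∈ (P : Subgroup H)) (hbP : b ∈ (P : Subgroup H)) {n : ℕ} (hn : 2 ≤ n)
    (ha : orderOf a = 2 ^ n) (hab : b * a * b⁻¹ = a⁻¹)
    (hcover : ∀ x ∈ (P : Subgroup H), x ∈ zpowers a ∨ b⁻¹ * x ∈ zpowers a)
    (hcardP : Nat.card (P : Subgroup H) = 2 * 2 ^ n) :
    Group.IsSolvable H := by
  classical
  have f2 : Fact (Nat.Prime 2) := ⟨Nat.prime_two⟩
  have := Fact.mk h.hp
  have hq2 : q ≠ 2 := fun e => h.ne (hp2.trans e.symm)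
  have hq3 : 3 ≤ q := lt_of_le_of_ne h.hq.two_le (Ne.symm hq2)
  have ha2 : a * a ≠ 1 := fun e => by
    have h1 := Nat.le_of_dvd (by norm_num) (orderOf_dvd_of_pow_eq_one (x := a) (n := 2) (by rw [sq]; exact e))
    rw [ha] at h1
    have : 2 ^ 2 ≤ 2 ^ n := Nat.pow_le_pow_right (by norm_num) hn
    omega
  have hfin : IsOfFinOrder a := isOfFinOrder_of_finite a
  by_cases hA : ∀ U : AddSubgroup V, (∀ u ∈ U, a • u ∈ U) → U = ⊥ ∨ U = ⊤
  swap
  · -- two blocks
    push Not at hA
    obtain ⟨U₀, hU₀, hU₀b, hU₀t⟩ := hA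
    obtain ⟨U, ⟨hU, hUb⟩, hUmin⟩ := Set.exists_min_image
      {U : AddSubgroup V | (∀ u ∈ U, a • u ∈ U) ∧ U ≠ ⊥} (fun U => Nat.card U) (Set.toFinite _)
      ⟨U₀, hU₀, hU₀b⟩
    have hUt : U ≠ ⊤ := fun e => by
      have := hUmin U₀ ⟨hU₀, hU₀b⟩
      rw [e, AddSubgroup.card_top] at this
      exact hU₀t (AddSubgroup.eq_top_of_le_card _ this)
    have hpow : ∀ k : ℕ, ∀ u ∈ U, a ^ k • u ∈ U := by
      intro k
      induction k with
      | zero => intro u hu; rwa [pow_zero, one_smul]
      | succ k ih => intro u hu; rw [pow_succ, mul_smul]; exact ih _ (hU u hu)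
    have hzp : ∀ g ∈ zpowers a, ∀ u ∈ U, g • u ∈ U := fun g hg u hu => by
      obtain ⟨k, rfl⟩ := hfin.mem_powers_iff_mem_zpowers.2 hg
      exact hpow k u hu
    set U' : AddSubgroup V := U.map (DistribMulAction.toAddMonoidHom V b) with hU'
    have hU'mem : ∀ w, w ∈ U' ↔ b⁻¹ • w ∈ U := fun w => by
      rw [hU', AddSubgroup.mem_map]
      constructor
      · rintro ⟨u, hu, rfl⟩
        show b⁻¹ • b • u ∈ U
        rwa [inv_smul_smul]
      · exact fun hw => ⟨_, hw, smul_inv_smul b w⟩
    have hnormA : ∀ g ∈ zpowers a, b⁻¹ * g * b ∈ zpowers a := by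
      rintro _ ⟨k, rfl⟩
      refine ⟨-k, ?_⟩
      show a ^ (-k) = b⁻¹ * a ^ k * b
      have e : b⁻¹ * a * b = a⁻¹ := by
        have := congrArg (fun z => b⁻¹ * z⁻¹ * b) hab
        simpa [mul_assoc] using this.symm
      have e2 : b⁻¹ * a ^ k * b = (b⁻¹ * a * b) ^ k := by
        simpa using (conj_zpow (a := b⁻¹) (b := a) (i := k)).symm
      rw [e2, e, inv_zpow, zpow_neg]
    have hbb : b * b ∈ zpowers a := by
      rcases hcover (b * b) (mul_mem hbP hbP) with h1 | h1
      · exact h1
      · rw [inv_mul_cancel_left] at h1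
        obtain ⟨k, hk⟩ := h1
        exfalso
        refine ha2 ?_
        have : b * a * b⁻¹ = a := by
          rw [← hk]
          show a ^ k * a * (a ^ k)⁻¹ = a
          group
        rw [hab] at this
        nth_rewrite 1 [← this]
        exact inv_mul_cancel a
    have hU'a : ∀ g ∈ zpowers a, ∀ w ∈ U', g • w ∈ U' := fun g hg w hw => by
      rw [hU'mem] at hw ⊢
      have := hzp _ (hnormA g hg) _ hw
      rwa [← mul_smul, mul_assoc, mul_inv_cancel, mul_one, mul_smul] at this
    have hdisj : ∀ v, v ∈ U → v ∈ U' → v = 0 := by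
      intro v hv hv'
      by_contra hv0
      have hUU : U ⊓ U' = U := by
        have hne : U ⊓ U' ≠ ⊥ := fun e => hv0 (AddSubgroup.mem_bot.1 (e ▸ ⟨hv, hv'⟩))
        have hinv : ∀ u ∈ U ⊓ U', a • u ∈ U ⊓ U' := fun u hu =>
          ⟨hU u hu.1, hU'a a (mem_zpowers a) u hu.2⟩
        exact AddSubgroup.eq_of_le_of_card_ge inf_le_left (hUmin _ ⟨hinv, hne⟩)
      have hb : ∀ u ∈ U, b • u ∈ U := fun u hu => by
        have h1 : u ∈ U' := (hUU.ge hu).2
        rw [hU'mem] at h1
        have := hzp _ hbb _ h1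
        rwa [← mul_smul, mul_inv_cancel_right] at this
      refine (hirr U fun π hπ u hu => ?_).elim hUb hUt
      rcases hcover π hπ with h1 | h1
      · exact hzp π h1 u hu
      · have := hb _ (hzp _ h1 u hu)
        rwa [← mul_smul, mul_inv_cancel_left] at this
    refine solvable_of_blocks h hf hN P (ι := ULift.{v} Bool) (by rw [Nat.card_ulift, hp2]; simp)
      (fun i => if i.down then U' else U) ?_ ?_ ?_ ?_ ?_
    · rintro ⟨_ | _⟩ <;> simp only [Bool.false_eq_true, if_false, if_true]
      · exact hUb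
      · intro e
        refine hUb ((AddSubgroup.eq_bot_iff_forall _).2 fun u hu => ?_)
        have : b • u ∈ U' := ⟨u, hu, rfl⟩
        rw [e, AddSubgroup.mem_bot] at this
        exact (smul_eq_zero_iff_eq b).1 this
    · rintro ⟨_ | _⟩ ⟨_ | _⟩ hij v hi hj <;>
        simp only [Bool.false_eq_true, if_false, if_true] at hi hj
      · exact absurd rfl hij
      · exact hdisj v hi hj
      · exact hdisj v hj hi
      · exact absurd rfl hij
    · rintro ⟨_ | _⟩ ⟨_ | _⟩ ⟨_ | _⟩ hij a' ha' b' hb' ha0 hb0 hab' <;>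
        simp only [Bool.false_eq_true, if_false, if_true] at ha' hb' hab'
      · exact hij rfl
      · exact hij rfl
      · exact hb0 (hdisj b' (by simpa using U.sub_mem hab' ha') hb')
      · exact ha0 (hdisj a' ha' (by simpa using U'.sub_mem hab' hb'))
      · exact ha0 (hdisj a' (by simpa using U.sub_mem hab' hb') ha')
      · exact hb0 (hdisj b' hb' (by simpa using U'.sub_mem hab' ha'))
      · exact hij rfl
      · exact hij rfl
    · intro π hπ i
      rcases hcover π hπ with h1 | h1
      · refine ⟨i, fun w hw => ?_⟩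
        rcases i with ⟨_ | _⟩ <;> simp only [Bool.false_eq_true, if_false, if_true] at hw ⊢
        · exact hzp π h1 w hw
        · exact hU'a π h1 w hw
      · refine ⟨⟨!i.down⟩, fun w hw => ?_⟩
        rcases i with ⟨_ | _⟩ <;>
          simp only [Bool.false_eq_true, if_false, if_true, Bool.not_false, Bool.not_true] at hw ⊢
        · rw [hU'mem, ← mul_smul]
          exact hzp _ h1 w hw
        · rw [hU'mem] at hw
          have h2 : π * b ∈ zpowers a := by
            have e : π * b = b * b * (b⁻¹ * (b⁻¹ * π) * b) := by group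
            rw [e]; exact mul_mem hbb (hnormA _ h1)
          have := hzp _ h2 _ hw
          rwa [← mul_smul, mul_inv_cancel_right] at this
    · obtain ⟨u, hu, hu0⟩ := U.bot_or_exists_ne_zero.resolve_left hUb
      refine ⟨b, hbP, ⟨false⟩, u, by simpa using hu, fun hbu => hu0 ?_⟩
      simp only [Bool.false_eq_true, if_false] at hbu
      exact (smul_eq_zero_iff_eq b).1 (hdisj _ hbu ((hU'mem _).2 (by rwa [inv_smul_smul])))
  -- `a` is irreducible
  obtain ⟨f, hf1, hdvd, hfV⟩ := exists_dvd_of_irreducible h.hq h.exp hf hab ha2 hfin hA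
  rw [ha] at hdvd
  have hAle : 2 ^ n ≤ q + 1 := by
    have hodd : Odd f := by
      by_contra hev
      rw [Nat.not_odd_iff_even] at hev
      obtain ⟨r, hr⟩ := hev
      have h4 : 4 ∣ q ^ f + 1 := (show 4 ∣ 2 ^ n by
        rw [show (4 : ℕ) = 2 ^ 2 from rfl]; exact pow_dvd_pow 2 hn).trans hdvd
      have hqodd : Odd q := h.hq.odd_of_ne_two hq2
      obtain ⟨s, hs⟩ := (hqodd.pow (n := r))
      rw [show q ^ f = (q ^ r) * (q ^ r) by rw [← pow_add, ← hr], hs] at h4
      have e : (2 * s + 1) * (2 * s + 1) + 1 = 4 * (s * s + s) + 2 := by ring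
      rw [e] at h4
      omega
    have h1 : q + 1 ∣ q ^ f + 1 := by simpa using hodd.nat_add_dvd_pow_add_pow q 1
    obtain ⟨S, hS⟩ := h1
    have hSodd : Odd S := by
      obtain ⟨r, rfl⟩ := hodd
      have hZ : ((q : ZMod (2 * (q + 1))) ^ (2 * r + 1) + 1) = (q : ZMod (2 * (q + 1))) + 1 := by
        have hsq : (q : ZMod (2 * (q + 1))) ^ 2 = 1 := by
          obtain ⟨u, hu⟩ := h.hq.odd_of_ne_two hq2
          have e : q ^ 2 = 1 + (2 * (q + 1)) * u := by subst hu; ring
          have e2 := congrArg (fun z : ℕ => (z : ZMod (2 * (q + 1)))) e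
          simp only [Nat.cast_add, Nat.cast_mul, Nat.cast_pow, Nat.cast_one] at e2
          rw [e2]
          have e3 : ((2 * (q + 1) : ℕ) : ZMod (2 * (q + 1))) = 0 := ZMod.natCast_self _
          push_cast at e3 ⊢
          rw [e3, zero_mul, add_zero]
        rw [pow_succ, pow_mul, hsq, one_pow, one_mul]
      have h3 : ((q ^ (2 * r + 1) + 1 : ℕ) : ZMod (2 * (q + 1))) = ((q + 1 : ℕ) : ZMod (2 * (q + 1))) := by
        push_cast; exact hZ
      rw [ZMod.natCast_eq_natCast_iff, hS] at h3
      rw [← Nat.not_even_iff_odd]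
      rintro ⟨s, rfl⟩
      rw [Nat.ModEq] at h3
      rw [show (q + 1) * (s + s) = 2 * (q + 1) * s by ring, Nat.mul_mod_right,
        Nat.mod_eq_of_lt (by omega)] at h3
      omega
    refine Nat.le_of_dvd (by omega) ?_
    rw [hS] at hdvd
    exact (Nat.Coprime.pow_left n (Nat.coprime_two_left.2 hSodd)).dvd_of_dvd_mul_right hdvd
  -- counting with an element of odd order
  by_cases hex : ∃ r : ℕ, r.Prime ∧ r ≠ 2 ∧ r ∣ Nat.card H
  swap
  · push Not at hex
    have h2 : IsPGroup 2 H := IsPGroup.of_card (n := (Nat.card H).primeFactorsList.length)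
      (Nat.eq_prime_pow_of_unique_prime_dvd Nat.card_pos.ne' fun {d} hd hdd => by
        by_contra hne
        exact hex d hd hne hdd)
    have := h2.isNilpotent
    infer_instance
  obtain ⟨r, hr, hr2, hrd⟩ := hex
  have := Fact.mk hr
  set R : Sylow r H := default
  obtain ⟨g₀, hg₀R, hg₀⟩ : ∃ g ∈ (R : Subgroup H), g ≠ 1 := by
    have hne := R.ne_bot_of_dvd_card hrd
    obtain ⟨g, hg, hg1⟩ := SetLike.not_le_iff_exists.1 (fun h => hne (le_bot_iff.1 h))
    exact ⟨g, hg, fun e => hg1 (e ▸ one_mem _)⟩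
  have hrne : r ≠ p := hp2 ▸ hr2
  set W : Finset V := @Finset.univ V (Fintype.ofFinite V) |>.filter (fun v => g₀ • v = v) with hW
  letI : Fintype V := Fintype.ofFinite V
  letI : Fintype (P : Subgroup H) := Fintype.ofFinite _
  have hWmem : ∀ v, v ∈ W ↔ g₀ • v = v := fun v => by simp [hW]
  obtain ⟨v', hv'⟩ : ∃ v' : V, g₀ • v' ≠ v' := by
    by_contra! hall
    exact hg₀ (hf g₀ hall)
  -- `|W| ≤ |P| - 1`
  have hWle : W.card + 1 ≤ Fintype.card (P : Subgroup H) := by
    have hk : ∀ v : V, ∃ π : (P : Subgroup H), (π : H) • (v + v') = g₀ • (v + v') := fun v => by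
      obtain ⟨π, hπ, e⟩ := h.exists_smul P g₀ (v + v')
      exact ⟨⟨π, hπ⟩, e⟩
    choose k hk using hk
    have h1 : ∀ v ∈ W, k v ≠ 1 := fun v hv e => hv' (by
      have h2 := hk v
      rw [e, OneMemClass.coe_one, one_smul, smul_add, (hWmem v).1 hv] at h2
      exact (add_left_cancel h2).symm)
    have hinj : Set.InjOn k W := fun v hv w hw e => by
      by_contra hvw
      have e1 := hk v
      have e2 := hk w
      rw [← e, smul_add, smul_add, (hWmem w).1 hw] at e2
      rw [smul_add, smul_add, (hWmem v).1 hv] at e1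
      have e3 : (k v : H) • (v - w) = v - w := by
        rw [smul_sub]
        calc _ = ((k v : H) • v + (k v : H) • v') - ((k v : H) • w + (k v : H) • v') := by abel
          _ = (v + g₀ • v') - (w + g₀ • v') := by rw [e1, e2]
          _ = _ := by abel
      exact hvw (sub_eq_zero.1 (semi _ (k v).2 (fun h0 => h1 v hv (Subtype.ext h0)) _ e3))
    have := Finset.card_le_card (s := W.image k) (t := Finset.univ.erase 1) (fun π hπ => by
      obtain ⟨v, hv, rfl⟩ := Finset.mem_image.1 hπ
      exact Finset.mem_erase.2 ⟨h1 v hv, Finset.mem_univ _⟩)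
    rw [Finset.card_image_of_injOn hinj, Finset.card_erase_of_mem (Finset.mem_univ _),
      Finset.card_univ] at this
    have : 0 < Fintype.card (P : Subgroup H) := Fintype.card_pos
    omega
  -- covering by translates
  have hWsharp : ∀ v : V, v ≠ 0 → ∃ π : (P : Subgroup H), ∃ w ∈ W.erase 0, (π : H) • w = v := by
    intro v hv
    obtain ⟨i, hi⟩ := h.orb v
    have hnd : ¬ r ∣ Nat.card (orbit H v) := by
      rw [hi]
      exact fun hd => hrne ((Nat.prime_dvd_prime_iff_eq hr h.hp).1 (hr.dvd_of_dvd_pow hd))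
    obtain ⟨⟨w, hwo⟩, hwfix⟩ := R.isPGroup'.nonempty_fixed_point_of_prime_not_dvd_card (orbit H v) hnd
    obtain ⟨g, hg⟩ := hwo
    obtain ⟨π, hπ, hπv⟩ := h.exists_smul P g v
    have hw : g₀ • w = w := congrArg Subtype.val (hwfix ⟨g₀, hg₀R⟩)
    have hπw : π • v = w := hπv.trans hg
    refine ⟨⟨π⁻¹, inv_mem hπ⟩, w, Finset.mem_erase.2 ⟨fun e => hv ?_, (hWmem w).2 hw⟩, ?_⟩
    · rw [e] at hπw
      exact (smul_eq_zero_iff_eq π).1 hπw
    · show π⁻¹ • w = v
      rw [← hπw, inv_smul_smul]
  choose! π₀ w₀ hw₀ hπw₀ using hWsharp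
  set z := a ^ 2 ^ (n - 1) with hz
  have hzord : orderOf z = 2 := by
    rw [hz, orderOf_pow' _ (by positivity), ha, Nat.gcd_eq_right (pow_dvd_pow 2 (Nat.sub_le n 1)),
      Nat.pow_div (Nat.sub_le n 1) (by norm_num), show n - (n - 1) = 1 by omega, pow_one]
  have hz1 : z ≠ 1 := fun e => by rw [e, orderOf_one] at hzord; norm_num at hzord
  have hzP : z ∈ (P : Subgroup H) := pow_mem haP _
  have hzneg : ∀ v : V, z • v = -v := fun v => by
    have : z • (z • v + v) = z • v + v := by
      rw [smul_add, ← mul_smul, ← sq, show z ^ 2 = 1 by rw [← hzord, pow_orderOf_eq_one], one_smul,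
        add_comm]
    exact eq_neg_of_add_eq_zero_left (semi z hzP hz1 _ this)
  have hcov : 2 * (Fintype.card V - 1) ≤ Fintype.card (P : Subgroup H) * (W.card - 1) := by
    let F : {v : V // v ≠ 0} × Bool → ↥(P : Subgroup H) × V := fun x =>
      if x.2 then (π₀ x.1 * ⟨z, hzP⟩, -w₀ x.1) else (π₀ x.1, w₀ x.1)
    have hval : ∀ x, ((F x).1 : H) • (F x).2 = x.1 := by
      rintro ⟨⟨v, hv⟩, _ | _⟩
      · exact hπw₀ v hv
      · show ((π₀ v * ⟨z, hzP⟩ : (P : Subgroup H)) : H) • (-w₀ v) = v
        rw [Subgroup.coe_mul, mul_smul, hzneg, neg_neg]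
        exact hπw₀ v hv
    have hFinj : Function.Injective F := by
      rintro ⟨⟨v, hv⟩, i⟩ ⟨⟨w, hw⟩, j⟩ e
      have hvw : v = w := by
        have := hval (⟨v, hv⟩, i)
        rw [e, hval] at this
        exact this.symm
      subst hvw
      cases i <;> cases j <;> simp only [F, Bool.false_eq_true, if_false, if_true] at e
      · rfl
      · have := congrArg Prod.fst e
        exact absurd (congrArg Subtype.val (mul_eq_left.1 this.symm)) hz1
      · have := congrArg Prod.fst e
        exact absurd (congrArg Subtype.val (mul_eq_left.1 this)) hz1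
      · rfl
    have hFmem : ∀ x, F x ∈ (Finset.univ : Finset (P : Subgroup H)) ×ˢ W.erase 0 := by
      rintro ⟨⟨v, hv⟩, _ | _⟩
      · exact Finset.mem_product.2 ⟨Finset.mem_univ _, hw₀ v hv⟩
      · refine Finset.mem_product.2 ⟨Finset.mem_univ _, ?_⟩
        obtain ⟨h1, h2⟩ := Finset.mem_erase.1 (hw₀ v hv)
        refine Finset.mem_erase.2 ⟨neg_ne_zero.2 h1, (hWmem _).2 ?_⟩
        show g₀ • (-w₀ v) = -w₀ v
        rw [smul_neg, (hWmem _).1 h2]
    have hle := Finset.card_le_card_of_injOn F (s := Finset.univ) (fun x _ => hFmem x)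
      hFinj.injOn
    rw [Finset.card_univ, Fintype.card_prod, Fintype.card_bool, Fintype.card_subtype_compl,
      Fintype.card_subtype_eq, Finset.card_product, Finset.card_univ,
      Finset.card_erase_of_mem ((hWmem 0).2 (smul_zero _))] at hle
    rw [mul_comm 2]
    exact hle
  have hq1 : Fintype.card (P : Subgroup H) = 2 * 2 ^ n := by rw [← Nat.card_eq_fintype_card, hcardP]
  rw [hq1] at hcov hWle
  have hV : Fintype.card V ≤ 2 ^ n * (2 * 2 ^ n - 2) + 1 := by
    have h1 : 2 * 2 ^ n * (W.card - 1) ≤ 2 * (2 ^ n * (2 * 2 ^ n - 2)) := by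
      rw [← mul_assoc]; exact Nat.mul_le_mul_left _ (by omega)
    have : Fintype.card V - 1 ≤ 2 ^ n * (2 * 2 ^ n - 2) :=
      Nat.le_of_mul_le_mul_left (hcov.trans h1) (by norm_num)
    omega
  have hV2 : Fintype.card V ≤ (q + 1) * (2 * q) + 1 := by
    refine hV.trans (Nat.add_le_add_right (Nat.mul_le_mul hAle ?_) 1)
    omega
  -- `|V| = q²`
  refine det_trick h hp2 hf ?_
  have := Fact.mk h.hq
  obtain ⟨hmod⟩ : Nonempty (Module (ZMod q) V) := ⟨AddCommGroup.zmodModule h.exp⟩
  have : Module.Finite (ZMod q) V := Module.Finite.of_finite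
  have hd := Module.natCard_eq_pow_finrank (K := ZMod q) (V := V)
  rw [Nat.card_zmod] at hd
  set d := Module.finrank (ZMod q) V
  rw [hd] at hfV
  rw [← Nat.card_eq_fintype_card, hd] at hV2
  have hd2 : 2 ≤ d := (show 2 ≤ 2 * f by omega).trans ((Nat.pow_le_pow_iff_right h.hq.one_lt).1 hfV)
  have hd3 : d < 3 := by
    by_contra hcon
    push Not at hcon
    have h3 : q ^ 3 ≤ q ^ d := Nat.pow_le_pow_right h.hq.pos hcon
    nlinarith [Nat.mul_le_mul_left (q * q) hq3]
  rw [hd, show d = 2 by omega]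

end Cfsg.Agent.QBaer
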