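import Cfsg.Agent.QBaer.Planes
import Cfsg.Agent.QBaer.Quaternion
import Cfsg.Agent.HalfTrans3371.Main
import Cfsg.Agent.S0111
import Cfsg.Agent.S0519

/-!
# Coprime linear groups with all orbits of `p`-power size are solvable
-/

set_option autoImplicit false

namespace Cfsg.Agent.QBaer

open MulAction Subgroup
open scoped IsMulCommutative

universe u v

variable {p q : ℕ} {H : Type u} [Group H] [Finite H] {V : Type v} [AddCommGroup V] [Finite V]
  [DistribMulAction H V]

/-- Solvable if a normal subgroup of index two is. -/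
theorem solvable_of_index_two (hN : SolvNormal H) (M : Subgroup H) [M.Normal] (hM : M.index = 2) :
    Group.IsSolvable H := by
  have : Fact (Nat.Prime 2) := ⟨Nat.prime_two⟩
  have hMs : Group.IsSolvable M := hN M inferInstance fun e => by
    rw [e, index_top] at hM; norm_num at hM
  have : IsCyclic (H ⧸ M) := isCyclic_of_prime_card (p := 2) (by rw [← hM]; rfl)
  have : Group.IsSolvable (H ⧸ M) := isSolvable_of_comm fun a b =>
    (IsCyclic.isMulCommutative (α := H ⧸ M)).is_comm.comm a b
  exact solvable_of_ker_le_range M.subtype (QuotientGroup.mk' M)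
    (by rw [QuotientGroup.ker_mk', range_subtype])

/-- The cyclic Sylow case. -/
theorem solvable_of_cyclic (h : OrbHyp p q H V) (hf : Faith H V) [Nontrivial V]
    (P : Sylow p H) (hirr : Irr (P : Subgroup H) V) (hcyc : IsCyclic (P : Subgroup H))
    (hp : p ∣ Nat.card H) : Group.IsSolvable H := by
  have := Fact.mk h.hp
  by_cases hp2 : p = 2
  · subst hp2
    have hmin : (Nat.card H).minFac = 2 := Nat.minFac_eq_two_iff _ |>.2 hp
    have hc := IsCyclic.normalizer_le_centralizer hmin hcyc
    have hcompl := MonoidHom.ker_transferSylow_isComplement' P hc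
    have hbot : (MonoidHom.transferSylow P hc).ker = ⊥ := by
      refine h.eq_bot_of_coprime hf _ ?_
      rw [← hcompl.index_eq_card]
      exact P.not_dvd_index
    rw [hbot, isComplement'_bot_left] at hcompl
    have h2 : IsPGroup 2 H := by
      have := P.isPGroup'
      rw [hcompl] at this
      exact this.of_equiv topEquiv
    have := h2.isNilpotent
    infer_instance
  · obtain ⟨v, hv⟩ := exists_ne (0 : V)
    obtain ⟨g, hg⟩ := hcyc.exists_generator
    have hspan : AddSubgroup.closure (orbit H v) = ⊤ := by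
      refine (hirr _ fun π hπ u hu => ?_).resolve_left fun e => hv ?_
      · refine AddSubgroup.closure_induction (p := fun x _ => π • x ∈ AddSubgroup.closure (orbit H v))
          ?_ ?_ ?_ ?_ hu
        · rintro x ⟨k, rfl⟩
          exact AddSubgroup.subset_closure ⟨π * k, by simp only [mul_smul]⟩
        · rw [smul_zero]; exact zero_mem _
        · intro x y _ _ hx hy; rw [smul_add]; exact add_mem hx hy
        · intro x _ hx; rw [smul_neg]; exact neg_mem hx
      · exact AddSubgroup.mem_bot.1 (e ▸ AddSubgroup.subset_closure (mem_orbit_self v))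
    have : FaithfulSMul H (orbit H v) := ⟨fun {a b} hab => by
      have hfix : ∀ u : V, a • u = b • u := fun u => by
        have hu : u ∈ AddSubgroup.closure (orbit H v) := hspan ▸ AddSubgroup.mem_top u
        refine AddSubgroup.closure_induction (p := fun x _ => a • x = b • x) ?_ ?_ ?_ ?_ hu
        · intro x hx; exact congrArg Subtype.val (hab ⟨x, hx⟩)
        · rw [smul_zero, smul_zero]
        · intro x y _ _ hx hy; rw [smul_add, smul_add, hx, hy]
        · intro x _ hx; rw [smul_neg, smul_neg, hx]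
      exact (inv_mul_eq_one.1 (hf (a⁻¹ * b) fun u => by rw [mul_smul, ← hfix, inv_smul_smul]))⟩
    obtain ⟨a, ha⟩ := h.orb v
    have : IsPretransitive (zpowers (g : H)) (orbit H v) := by
      refine ⟨fun x y => ?_⟩
      obtain ⟨k₁, hk₁⟩ := x.2
      obtain ⟨k₂, hk₂⟩ := y.2
      obtain ⟨π, hπ, hπv⟩ := h.exists_smul P (k₂ * k₁⁻¹) (x : V)
      obtain ⟨j, hj⟩ := mem_zpowers_iff.1 (hg ⟨π, hπ⟩)
      refine ⟨⟨(g : H) ^ j, j, rfl⟩, Subtype.ext ?_⟩
      show ((g : H) ^ j) • (x : V) = y
      rw [← SubgroupClass.coe_zpow, hj, hπv, ← hk₁, ← hk₂]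
      simp [mul_smul]
    exact solvable_of_cyclic_transitive h.hp a (g : H) (h.odd_card hf hp2) ha

/-- The irreducible case. -/
theorem solvable_of_irr (h : OrbHyp p q H V) (hf : Faith H V) (hN : SolvNormal H) [Nontrivial V]
    (P : Sylow p H) (hirr : Irr (P : Subgroup H) V) (hp : p ∣ Nat.card H) :
    Group.IsSolvable H := by
  classical
  have := Fact.mk h.hp
  have hfq := Fact.mk h.hq
  by_cases hab : ∀ A : Subgroup (P : Subgroup H), A.Normal → IsMulCommutative A → IsCyclic A
  swap
  · push Not at hab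
    obtain ⟨A, hAn, hA, hAc⟩ := hab
    obtain ⟨z, e, hz, hzc, he, hez, hconj⟩ := exists_pair P.isPGroup' A hA hAc
    refine solvable_of_pair h hf hN P hirr z.2 ((orderOf_coe z).trans hz) ?_ e.2
      (congrArg Subtype.val he) ?_ ?_
    · intro σ hσ
      exact congrArg Subtype.val (mem_center_iff.1 hzc ⟨σ, hσ⟩)
    · rintro ⟨k, hk⟩
      exact hez ⟨k, Subtype.ext hk⟩
    · intro π hπ
      obtain ⟨c, hc⟩ := hconj ⟨π, hπ⟩
      exact ⟨c, congrArg Subtype.val hc⟩
  have hpdvd : p ∣ Nat.card (P : Subgroup H) := P.dvd_card_of_dvd_card hp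
  by_cases hsemi : ∀ π ∈ (P : Subgroup H), π ≠ 1 → ∀ v : V, π • v = v → v = 0
  · obtain ⟨hmod⟩ : Nonempty (Module (ZMod q) V) := ⟨AddCommGroup.zmodModule h.exp⟩
    have hfp : FPF25.HasFPF (P : Subgroup H) :=
      FPF25.hasFPF_of_module (q := q) (A := V) (fun hd => h.cop (hd.trans (card_subgroup_dvd_card _)))
        (fun g => DistribSMul.toAddMonoidHom V (g : H)) (fun w => one_smul H w)
        (fun a b w => mul_smul (a : H) (b : H) w)
        (fun g w hg hw => hsemi g g.2 (fun e => hg (Subtype.ext e)) w hw)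
    rcases hfp.cyclic_or_quaternion (P := ⊤) (P.isPGroup'.to_subgroup ⊤) with hc | ⟨hp2, k, hk, ⟨φ⟩⟩
    · exact solvable_of_cyclic h hf P hirr (topEquiv.isCyclic.1 hc) hp
    · subst hp2
      set ψ := topEquiv.symm.trans φ with hψ
      have hn0 : NeZero (2 ^ k) := ⟨by positivity⟩
      set a := ψ.symm (QuaternionGroup.a 1) with ha
      set b := ψ.symm (QuaternionGroup.xa 0) with hb
      have hmem : ∀ i, ψ.symm (QuaternionGroup.a i) ∈ zpowers a := fun i =>
        ⟨(i.val : ℤ), by
          show a ^ (i.val : ℤ) = _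
          rw [ha, zpow_natCast, ← map_pow, QuaternionGroup.a_one_pow, ZMod.natCast_zmod_val]⟩
      have hzp : ∀ x : (P : Subgroup H), x ∈ zpowers a → (x : H) ∈ zpowers (a : H) := by
        rintro _ ⟨i, rfl⟩; exact ⟨i, (SubgroupClass.coe_zpow a i).symm⟩
      refine solvable_of_quaternion h hf hN rfl P hirr hsemi a.2 b.2 (n := k + 1) (by omega) ?_ ?_ ?_ ?_
      · rw [orderOf_coe, ha, ψ.symm.orderOf_eq, QuaternionGroup.orderOf_a_one, pow_succ']
      · have e : b * a * b⁻¹ = a⁻¹ := by
          rw [ha, hb, mul_inv_eq_iff_eq_mul, ← map_inv, ← map_mul, ← map_mul]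
          congr 1
          show QuaternionGroup.xa (0 + 1) = QuaternionGroup.a (-1) * QuaternionGroup.xa 0
          rw [QuaternionGroup.a_mul_xa]
          simp
        exact congrArg Subtype.val e
      · intro x hx
        rcases hx' : ψ ⟨x, hx⟩ with i | i
        · left
          exact hzp ⟨x, hx⟩ (by rw [← ψ.symm_apply_apply ⟨x, hx⟩, hx']; exact hmem i)
        · right
          refine hzp (b⁻¹ * ⟨x, hx⟩) ?_
          have : b⁻¹ * ⟨x, hx⟩ = ψ.symm (QuaternionGroup.a i) := by
            rw [inv_mul_eq_iff_eq_mul, hb, ← map_mul, QuaternionGroup.xa_mul_a, zero_add, ← hx',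
              ψ.symm_apply_apply]
          rw [this]; exact hmem i
      · rw [Nat.card_congr ψ.toEquiv, Nat.card_eq_fintype_card, QuaternionGroup.card]
        ring
  push Not at hsemi
  obtain ⟨π, hπ, hπ1, v, hπv, hv⟩ := hsemi
  obtain ⟨z₀, hz₀, hz₀c⟩ : ∃ z : (P : Subgroup H), orderOf z = p ∧ z ∈ center (P : Subgroup H) := by
    have : Nontrivial (P : Subgroup H) := Finite.one_lt_card_iff_nontrivial.1
      (lt_of_lt_of_le h.hp.one_lt (Nat.le_of_dvd Nat.card_pos hpdvd))
    have := P.isPGroup'.center_nontrivial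
    obtain ⟨z, hz⟩ := exists_prime_orderOf_dvd_card' (G := center (P : Subgroup H)) p
      ((P.isPGroup'.to_subgroup _).card_eq_or_dvd.resolve_left Finite.one_lt_card.ne')
    exact ⟨z, by rw [orderOf_coe, hz], z.2⟩
  set π₁ : (P : Subgroup H) := ⟨π, hπ⟩ with hπ₁
  obtain ⟨j, hj⟩ := IsPGroup.iff_orderOf.1 P.isPGroup' π₁
  have hj0 : j ≠ 0 := fun e => hπ1 (by
    rw [e, pow_zero, orderOf_eq_one_iff] at hj
    exact congrArg Subtype.val hj)
  set ρ := π₁ ^ p ^ (j - 1) with hρ
  have hρo : orderOf ρ = p := by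
    rw [hρ, orderOf_pow' _ (by have := h.hp.pos; positivity), hj,
      Nat.gcd_eq_right (pow_dvd_pow p (Nat.sub_le j 1)), Nat.pow_div (Nat.sub_le j 1) h.hp.pos,
      show j - (j - 1) = 1 by omega, pow_one]
  have hρv : (ρ : H) • v = v := by
    have : (ρ : H) ∈ stabilizer H v := by
      rw [hρ, SubmonoidClass.coe_pow]; exact pow_mem (show π ∈ stabilizer H v from hπv) _
    exact this
  have hsemz : ∀ (k : ℕ), (z₀ : H) ^ k ≠ 1 → ∀ w : V, (z₀ : H) ^ k • w = w → w = 0 := by
    intro k hk w hw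
    refine semiReg_of_normalised hirr hf hk (fun σ hσ => ⟨1, ?_⟩) hw
    have hc : Commute σ (z₀ : H) := congrArg Subtype.val (mem_center_iff.1 hz₀c ⟨σ, hσ⟩)
    rw [zpow_one, mul_assoc, ← (hc.pow_right k).eq, inv_mul_cancel_left]
  have hρz : ρ ∉ zpowers z₀ := by
    intro hmem
    rw [← mem_powers_iff_mem_zpowers] at hmem
    obtain ⟨k, hk⟩ := hmem
    have hk' : (z₀ : H) ^ k = ρ := congrArg Subtype.val hk
    refine hv (hsemz k (fun e => ?_) v (hk' ▸ hρv))
    rw [hk', OneMemClass.coe_eq_one] at e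
    rw [e, orderOf_one] at hρo
    exact h.hp.one_lt.ne hρo
  have hρz' : Commute ρ z₀ := mem_center_iff.1 hz₀c ρ
  have hm : ∃ B : Subgroup (P : Subgroup H), IsMulCommutative B ∧ ¬ IsCyclic B := by
    refine ⟨closure {z₀, ρ}, ?_, fun hc => hρz ?_⟩
    · exact Subgroup.isMulCommutative_closure fun a ha b hb => by
        rcases ha with rfl | rfl <;> rcases hb with rfl | rfl
        · rfl
        · exact hρz'.eq.symm
        · exact hρz'.eq
        · rfl
    · exact Fusion.mem_zpowers_of_orderOf_dvd hc (w := ρ) (x := z₀) (subset_closure (Or.inr rfl))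
        (subset_closure (Or.inl rfl)) (dvd_of_eq (hρo.trans hz₀.symm))
  obtain ⟨hp2, hshape⟩ := Agent.S0519.result p P.isPGroup' hab hm
  subst hp2
  have hnc : ¬ ∀ x y : (P : Subgroup H), x * y = y * x := fun hcomm => by
    have htop := hab ⊤ inferInstance (isMulCommutative_iff.2 fun a b => Subtype.ext (hcomm a b))
    obtain ⟨B, -, hB⟩ := hm
    exact hB (Subgroup.isCyclic_of_le (le_top : B ≤ ⊤))
  obtain ⟨a, m, hm1, haord, haidx⟩ : ∃ (a : (P : Subgroup H)) (m : ℕ), 1 ≤ m ∧ orderOf a = 2 ^ m ∧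
      (zpowers a).index = 2 := by
    rcases hshape with ⟨n, ⟨φ⟩⟩ | ⟨n, -, ⟨φ⟩⟩ | hqd
    · obtain ⟨e, a, b, he, ha, hi, -⟩ := HalfTrans3371.quaternion_data P.isPGroup' φ hnc
      exact ⟨a, e, by omega, ha, hi⟩
    · obtain ⟨e, a, b, -, he, ha, hi, -⟩ := HalfTrans3371.dihedral_data P.isPGroup' φ hnc
      exact ⟨a, e, by omega, ha, hi⟩
    · obtain ⟨e, a, b, he, -, ha, hi, -⟩ := HalfTrans3371.semidihedral_data hqd
      exact ⟨a, e, by omega, ha, hi⟩
  -- the involution of `⟨a⟩` acts as `-1`
  set c := a ^ 2 ^ (m - 1) with hc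
  have hcord : orderOf c = 2 := by
    rw [hc, orderOf_pow' _ (by positivity), haord, Nat.gcd_eq_right (pow_dvd_pow 2 (Nat.sub_le m 1)),
      Nat.pow_div (Nat.sub_le m 1) (by norm_num), show m - (m - 1) = 1 by omega, pow_one]
  have hAn : (zpowers a).Normal := normal_of_index_eq_two haidx
  have huniq : ∀ x ∈ zpowers a, orderOf x = 2 → x = c := fun x hx hx2 => by
    have := Fusion.mem_zpowers_of_orderOf_dvd (A := zpowers a) inferInstance (w := x) (x := c)
      hx (pow_mem (mem_zpowers a) _) (dvd_of_eq (hx2.trans hcord.symm))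
    rw [← mem_powers_iff_mem_zpowers] at this
    obtain ⟨i, hi⟩ := this
    have hi' : c ^ i = x := hi
    have hcc : c ^ 2 = 1 := orderOf_dvd_iff_pow_eq_one.1 hcord.dvd
    rcases Nat.even_or_odd i with ⟨l, hl⟩ | ⟨l, hl⟩
    · rw [hl, ← two_mul, pow_mul, hcc, one_pow] at hi'
      rw [← hi', orderOf_one] at hx2
      norm_num at hx2
    · rw [hl, pow_succ, pow_mul, hcc, one_pow, one_mul] at hi'
      exact hi'.symm
  have hc1 : (c : H) ≠ 1 := fun e => by
    rw [OneMemClass.coe_eq_one] at e
    rw [e, orderOf_one] at hcord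
    norm_num at hcord
  have hcneg : ∀ w : V, (c : H) • w = -w := by
    intro w
    have hnorm : ∀ σ ∈ (P : Subgroup H), ∃ k : ℤ, σ⁻¹ * (c : H) * σ = (c : H) ^ k := by
      intro σ hσ
      refine ⟨1, ?_⟩
      rw [zpow_one]
      have hx : (⟨σ, hσ⟩ : (P : Subgroup H))⁻¹ * c * ⟨σ, hσ⟩ = c := by
        refine huniq _ ?_ ?_
        · simpa using hAn.conj_mem c (pow_mem (mem_zpowers a) _) (⟨σ, hσ⟩ : (P : Subgroup H))⁻¹
        · refine Eq.trans ?_ hcord
          simpa using (MulAut.conj (⟨σ, hσ⟩ : (P : Subgroup H))⁻¹).orderOf_eq c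
      exact congrArg Subtype.val hx
    have hfix : (c : H) • ((c : H) • w + w) = (c : H) • w + w := by
      rw [smul_add, ← mul_smul, ← sq, ← SubmonoidClass.coe_pow, orderOf_dvd_iff_pow_eq_one.1 hcord.dvd,
        OneMemClass.coe_one, one_smul, add_comm]
    exact eq_neg_of_add_eq_zero_left (semiReg_of_normalised hirr hf hc1 hnorm hfix)
  have hρA : ρ ∉ zpowers a := by
    intro hmem
    have e := huniq ρ hmem hρo
    have hk2 := hρv
    rw [e, hcneg] at hk2
    refine hv ?_
    have h2 : 2 • v = 0 := by rw [two_nsmul]; nth_rewrite 1 [← hk2]; exact neg_add_cancel v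
    have : addOrderOf v ∣ Nat.gcd 2 q :=
      Nat.dvd_gcd (addOrderOf_dvd_of_nsmul_eq_zero h2) (addOrderOf_dvd_of_nsmul_eq_zero (h.exp v))
    rw [(Nat.coprime_primes Nat.prime_two h.hq).2 h.ne, Nat.dvd_one,
      AddMonoid.addOrderOf_eq_one_iff] at this
    exact this
  rcases Agent.S0111.result P ((zpowers a).map (P : Subgroup H).subtype) (map_subtype_le _)
      (by rw [relIndex, subgroupOf, comap_map_eq_self_of_injective (subtype_injective _)]; exact haidx)
      (ρ : H) (by rw [orderOf_coe, hρo]) ρ.2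
      (fun hh => hρA (by obtain ⟨y, hy, e⟩ := hh; rwa [← Subtype.ext e]))
    with ⟨M, hMn, hMi, -⟩ | ⟨g, hg⟩
  · exact solvable_of_index_two hN M hMi
  · exfalso
    obtain ⟨y, hy, hye⟩ := hg
    have hyo : orderOf y = 2 := by
      rw [← orderOf_coe, show (y : H) = g * ρ * g⁻¹ from hye,
        show g * (ρ : H) * g⁻¹ = MulAut.conj g (ρ : H) from rfl, MulEquiv.orderOf_eq, orderOf_coe, hρo]
    have hyc := huniq y hy hyo
    -- `ρ` would act as `-1`
    have hneg : ∀ w : V, (ρ : H) • w = -w := by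
      intro w
      have h1 : g • (ρ : H) • w = -(g • w) := by
        rw [← hcneg, ← hyc, show (y : H) = g * ρ * g⁻¹ from hye, mul_smul, mul_smul, inv_smul_smul]
      rw [← smul_neg] at h1
      exact MulAction.injective g h1
    have := hρv
    rw [hneg] at this
    refine hv ?_
    have h2 : 2 • v = 0 := by rw [two_nsmul]; nth_rewrite 1 [← this]; exact neg_add_cancel v
    have h3 : addOrderOf v ∣ Nat.gcd 2 q :=
      Nat.dvd_gcd (addOrderOf_dvd_of_nsmul_eq_zero h2) (addOrderOf_dvd_of_nsmul_eq_zero (h.exp v))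
    rw [(Nat.coprime_primes Nat.prime_two h.hq).2 h.ne, Nat.dvd_one,
      AddMonoid.addOrderOf_eq_one_iff] at h3
    exact h3

/-- The orbit theorem. -/
theorem solvable_of_orbits : ∀ (n : ℕ) (p q : ℕ) (H : Type u) [Group H] [Finite H] (V : Type v)
    [AddCommGroup V] [Finite V] [DistribMulAction H V],
    Nat.card H + Nat.card V ≤ n → OrbHyp p q H V → Faith H V → Group.IsSolvable H := by
  intro n
  induction n with
  | zero =>
    intro p q H _ _ V _ _ _ hn
    have : 0 < Nat.card H := Nat.card_pos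
    omega
  | succ n ih => ?_
  intro p q H _ _ V _ _ _ hn h hf
  classical
  have := Fact.mk h.hp
  rcases subsingleton_or_nontrivial V with hV | hV
  · have : Subsingleton H := ⟨fun a b => by
      rw [hf a fun v => Subsingleton.elim _ _, hf b fun v => Subsingleton.elim _ _]⟩
    exact ⟨⟨0, Subsingleton.elim _ _⟩⟩
  have hN : SolvNormal H := by
    intro N hNn hNt
    refine ih p q N V ?_ (h.of_normal N) fun g hg => Subtype.ext (hf g fun v => hg v)
    have hlt : Nat.card N < Nat.card H :=
      lt_of_le_of_ne (Nat.le_of_dvd Nat.card_pos (card_subgroup_dvd_card N))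
        fun e => hNt (eq_top_of_card_eq N e)
    omega
  by_cases hp : p ∣ Nat.card H
  swap
  · have htop : (⊤ : Subgroup H) = ⊥ := h.eq_bot_of_coprime hf ⊤ (by rwa [card_top])
    have : Subsingleton H := ⟨fun a b => by
      have e1 : a ∈ (⊥ : Subgroup H) := htop ▸ mem_top a
      have e2 : b ∈ (⊥ : Subgroup H) := htop ▸ mem_top b
      rw [Subgroup.mem_bot.1 e1, Subgroup.mem_bot.1 e2]⟩
    exact ⟨⟨0, Subsingleton.elim _ _⟩⟩
  obtain ⟨P⟩ := (inferInstance : Nonempty (Sylow p H))
  by_cases hirr : Irr (P : Subgroup H) V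
  · exact solvable_of_irr h hf hN P hirr hp
  -- reducible
  simp only [Irr, not_forall, not_or] at hirr
  obtain ⟨U, hUP, hUb, hUt⟩ := hirr
  have hUH : ∀ g : H, ∀ u ∈ U, g • u ∈ U := fun g u hu => by
    obtain ⟨π, hπ, e⟩ := h.exists_smul P g u
    exact e ▸ hUP π hπ u hu
  -- one step: a hom to endomorphisms gives a solvable image
  have step : ∀ (W : Type v) [AddCommGroup W] [Finite W] (f : H →* AddMonoid.End W),
      Nat.card W < Nat.card V → (∀ w : W, q • w = 0) →
      (∀ w : W, ∃ a, {u : W | ∃ g : H, f g w = u}.ncard = p ^ a) →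
      Group.IsSolvable (H ⧸ f.ker) := by
    intro W _ _ f hW hexp horb
    letI : DistribMulAction (H ⧸ f.ker) W :=
      DistribMulAction.compHom W (QuotientGroup.lift f.ker f le_rfl)
    have hval : ∀ (g : H) (w : W), (QuotientGroup.mk g : H ⧸ f.ker) • w = f g w := fun _ _ => rfl
    refine ih p q (H ⧸ f.ker) W ?_ ⟨h.hp, h.hq, h.ne, hexp, fun hd => h.cop
      (hd.trans (card_quotient_dvd_card _)), fun w => ?_⟩ ?_
    · have : Nat.card (H ⧸ f.ker) ≤ Nat.card H :=
        Nat.le_of_dvd Nat.card_pos (card_quotient_dvd_card _)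
      omega
    · obtain ⟨a, ha⟩ := horb w
      refine ⟨a, ?_⟩
      rw [← ha, Nat.card_coe_set_eq]
      congr 1
      ext u
      constructor
      · rintro ⟨x, rfl⟩
        induction x using QuotientGroup.induction_on with
        | H g => exact ⟨g, rfl⟩
      · rintro ⟨g, rfl⟩
        exact ⟨QuotientGroup.mk g, rfl⟩
    · intro x hx
      induction x using QuotientGroup.induction_on with
      | H g =>
        rw [QuotientGroup.eq_one_iff, MonoidHom.mem_ker]
        exact DFunLike.ext _ _ fun w => by rw [← hval, hx]; rfl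
  -- the action on `U`
  let f₁ : H →* AddMonoid.End U :=
    { toFun := fun g => (AddMonoidHom.mk' (fun u : U => (⟨g • (u : V), hUH g u u.2⟩ : U))
        (fun u w => Subtype.ext (smul_add g (u : V) (w : V))) : U →+ U)
      map_one' := DFunLike.ext _ _ fun (u : U) => Subtype.ext (one_smul H (u : V))
      map_mul' := fun g k => DFunLike.ext _ _ fun (u : U) => Subtype.ext (mul_smul g k (u : V)) }
  let f₂ : H →* AddMonoid.End (V ⧸ U) :=
    { toFun := fun g => QuotientAddGroup.map U U (DistribSMul.toAddMonoidHom V g)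
        fun u hu => hUH g u hu
      map_one' := DFunLike.ext _ _ fun x => by
        induction x using QuotientAddGroup.induction_on with
        | H v => exact congrArg _ (one_smul H v)
      map_mul' := fun g k => DFunLike.ext _ _ fun x => by
        induction x using QuotientAddGroup.induction_on with
        | H v => exact congrArg _ (mul_smul g k v) }
  have hU1 : Nat.card U < Nat.card V := by
    refine lt_of_le_of_ne (Nat.le_of_dvd Nat.card_pos (AddSubgroup.card_addSubgroup_dvd_card U)) ?_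
    exact fun e => hUt (AddSubgroup.eq_top_of_card_eq U e)
  have hU2 : Nat.card (V ⧸ U) < Nat.card V := by
    have h1 := AddSubgroup.card_eq_card_quotient_mul_card_addSubgroup U
    have h2 : 1 < Nat.card U := (AddSubgroup.one_lt_card_iff_ne_bot U).2 hUb
    have h3 : 0 < Nat.card (V ⧸ U) := Nat.card_pos
    nlinarith
  have hs1 : Group.IsSolvable (H ⧸ f₁.ker) := by
    refine step U f₁ hU1 (fun w => Subtype.ext (h.exp w)) fun w => ?_
    obtain ⟨a, ha⟩ := h.orb (w : V)
    refine ⟨a, ?_⟩
    rw [← ha, Nat.card_coe_set_eq, ← Set.ncard_image_of_injective _ Subtype.val_injective]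
    congr 1
    ext x
    constructor
    · rintro ⟨_, ⟨g, rfl⟩, rfl⟩; exact ⟨g, rfl⟩
    · rintro ⟨g, rfl⟩; exact ⟨_, ⟨g, rfl⟩, rfl⟩
  have hs2 : Group.IsSolvable (H ⧸ f₂.ker) := by
    refine step (V ⧸ U) f₂ hU2 (fun w => ?_) fun w => ?_
    · induction w using QuotientAddGroup.induction_on with
      | H v => rw [← QuotientAddGroup.mk_nsmul, h.exp, QuotientAddGroup.mk_zero]
    · induction w using QuotientAddGroup.induction_on with
      | H v =>
        letI act : MulAction H (V ⧸ U) :=
          { smul := fun g x => f₂ g x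
            one_smul := fun x => by show f₂ 1 x = x; rw [map_one]; rfl
            mul_smul := fun g k x => by show f₂ (g * k) x = _; rw [map_mul]; rfl }
        obtain ⟨a, ha⟩ := h.index_stab v
        have hle : stabilizer H v ≤ stabilizer H (v : V ⧸ U) := fun g hg => by
          show (QuotientAddGroup.mk (g • v) : V ⧸ U) = _
          rw [hg]
        obtain ⟨b, -, hb⟩ := (Nat.dvd_prime_pow h.hp).1 (ha ▸ index_dvd_of_le hle)
        exact ⟨b, by rw [← hb, index_stabilizer]; rfl⟩
  -- the kernel of both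
  have hbot : f₁.ker ⊓ f₂.ker = ⊥ := by
    refine (eq_bot_iff_forall _).2 fun g hg => ?_
    obtain ⟨hg1, hg2⟩ := hg
    have hfix : ∀ u ∈ U, g • u = u := fun u hu =>
      congrArg (fun f : AddMonoid.End U => (f ⟨u, hu⟩ : V)) (MonoidHom.mem_ker.1 hg1)
    refine hf g fun v => ?_
    have h2 := congrArg (fun f : AddMonoid.End (V ⧸ U) => f (v : V ⧸ U)) (MonoidHom.mem_ker.1 hg2)
    have hd : g • v - v ∈ U := by
      refine (QuotientAddGroup.eq_iff_sub_mem).1 ?_
      exact h2
    set d := g • v - v with hddef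
    have hpow : ∀ k : ℕ, g ^ k • v = v + k • d := by
      intro k
      induction k with
      | zero => simp
      | succ k ihk =>
        rw [pow_succ', mul_smul, ihk, smul_add, hfix _ (nsmul_mem hd k), succ_nsmul, hddef]
        abel
    have h3 := hpow (orderOf g)
    rw [pow_orderOf_eq_one, one_smul, left_eq_add] at h3
    have h4 : addOrderOf d ∣ Nat.gcd (orderOf g) q :=
      Nat.dvd_gcd (addOrderOf_dvd_of_nsmul_eq_zero h3) (addOrderOf_dvd_of_nsmul_eq_zero (h.exp d))
    have hcop : Nat.Coprime (orderOf g) q := Nat.Coprime.symm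
      (h.hq.coprime_iff_not_dvd.2 fun hd' => h.cop (hd'.trans (orderOf_dvd_natCard g)))
    rw [hcop, Nat.dvd_one, AddMonoid.addOrderOf_eq_one_iff] at h4
    exact sub_eq_zero.1 h4
  have := hs1
  have := hs2
  have : Group.IsSolvable ((H ⧸ f₁.ker) × (H ⧸ f₂.ker)) :=
    Group.isSolvable_of_ker_le_range (MonoidHom.inl (H ⧸ f₁.ker) (H ⧸ f₂.ker))
      (MonoidHom.snd (H ⧸ f₁.ker) (H ⧸ f₂.ker)) fun x hx => ⟨x.1, Prod.ext rfl hx.symm⟩
  exact solvable_of_solvable_injective
    (f := (QuotientGroup.mk' f₁.ker).prod (QuotientGroup.mk' f₂.ker))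
    ((injective_iff_map_eq_one _).2 fun g hg => by
      obtain ⟨e1, e2⟩ := Prod.ext_iff.1 hg
      exact Subgroup.mem_bot.1 (hbot ▸ ⟨(QuotientGroup.eq_one_iff g).1 e1, (QuotientGroup.eq_one_iff g).1 e2⟩))

end Cfsg.Agent.QBaer
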