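import Mathlib
import Cfsg.Agent.QBaer.CyclicRegular

/-!
# Coprime linear groups all of whose orbits have prime power size: basic lemmas
-/

set_option autoImplicit false

namespace Cfsg.Agent.QBaer

open MulAction Subgroup

universe u v

/-- All orbits of `H` on the elementary abelian `q`-group `V` have `p`-power size, `q ∤ |H|`. -/
structure OrbHyp (p q : ℕ) (H : Type u) [Group H] (V : Type v) [AddCommGroup V]
    [DistribMulAction H V] : Prop where
  hp : p.Prime
  hq : q.Prime
  ne : p ≠ q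
  exp : ∀ v : V, q • v = 0
  cop : ¬ q ∣ Nat.card H
  orb : ∀ v : V, ∃ a : ℕ, Nat.card (orbit H v) = p ^ a

/-- Only `1` acts trivially. -/
def Faith (H : Type u) [Group H] (V : Type v) [MulAction H V] : Prop :=
  ∀ h : H, (∀ v : V, h • v = v) → h = 1

/-- Every proper normal subgroup is solvable. -/
def SolvNormal (H : Type u) [Group H] : Prop :=
  ∀ N : Subgroup H, N.Normal → N ≠ ⊤ → Group.IsSolvable N

/-- `V` has no proper subgroup invariant under `P`. -/
def Irr {H : Type u} [Group H] (P : Subgroup H) (V : Type v) [AddCommGroup V]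
    [DistribMulAction H V] : Prop :=
  ∀ U : AddSubgroup V, (∀ π ∈ P, ∀ u ∈ U, π • u ∈ U) → U = ⊥ ∨ U = ⊤

variable {p q : ℕ} {H : Type u} [Group H] [Finite H] {V : Type v} [AddCommGroup V] [Finite V]
  [DistribMulAction H V]

omit [Finite H] [Finite V] in
theorem OrbHyp.index_stab (h : OrbHyp p q H V) (v : V) : ∃ a, (stabilizer H v).index = p ^ a := by
  obtain ⟨a, ha⟩ := h.orb v
  exact ⟨a, by rw [index_stabilizer, ← ha, Nat.card_coe_set_eq]⟩

/-- A Sylow `p`-subgroup is transitive on every orbit. -/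
theorem OrbHyp.exists_smul (h : OrbHyp p q H V) (P : Sylow p H) (g : H) (v : V) :
    ∃ π ∈ (P : Subgroup H), π • v = g • v := by
  have := Fact.mk h.hp
  obtain ⟨a, ha⟩ := h.orb v
  have hsub : orbit (P : Subgroup H) v ⊆ orbit H v := by
    rintro _ ⟨π, rfl⟩; exact ⟨π, rfl⟩
  have hdvd : p ^ a ∣ Nat.card (orbit (P : Subgroup H) v) := by
    have h1 : (stabilizer H v).index ∣ ((stabilizer H v) ⊓ P).index :=
      index_dvd_of_le inf_le_left
    rw [← relIndex_mul_index (inf_le_right : stabilizer H v ⊓ P ≤ P), inf_relIndex_right,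
      index_stabilizer, ← Nat.card_coe_set_eq, ha] at h1
    have h2 : (p ^ a).Coprime (P : Subgroup H).index :=
      Nat.Coprime.pow_left a (h.hp.coprime_iff_not_dvd.2 P.not_dvd_index)
    have h3 := h2.dvd_of_dvd_mul_right h1
    rw [Nat.card_coe_set_eq, ← index_stabilizer]
    exact h3
  have heq : orbit (P : Subgroup H) v = orbit H v := by
    refine Set.eq_of_subset_of_ncard_le hsub ?_
    rw [← Nat.card_coe_set_eq, ← Nat.card_coe_set_eq, ha]
    exact Nat.le_of_dvd (Nat.card_pos_iff.2 ⟨⟨⟨v, mem_orbit_self v⟩⟩, Subtype.finite⟩) hdvd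
  have : g • v ∈ orbit (P : Subgroup H) v := by rw [heq]; exact mem_orbit v g
  obtain ⟨π, hπ⟩ := this
  exact ⟨π, π.2, hπ⟩

omit [Finite V] in
theorem relIndex_dvd_index_normal' (K N : Subgroup H) [N.Normal] : K.relIndex N ∣ K.index := by
  have h1 : (K ⊓ N).relIndex K = N.relIndex (K ⊔ N) := by
    rw [inf_relIndex_left, relIndex_sup_right]
  have h2 := (relIndex_mul_relIndex (K ⊓ N) K (K ⊔ N) inf_le_left le_sup_left).trans
    (relIndex_mul_relIndex (K ⊓ N) N (K ⊔ N) inf_le_right le_sup_right).symm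
  rw [h1, inf_relIndex_right, mul_comm] at h2
  rw [← Nat.eq_of_mul_eq_mul_right (Nat.pos_of_ne_zero FiniteIndex.index_ne_zero) h2]
  exact relIndex_dvd_index_of_le le_sup_left

omit [Finite V] in
/-- A normal subgroup inherits the hypothesis. -/
theorem OrbHyp.of_normal (h : OrbHyp p q H V) (N : Subgroup H) [N.Normal] :
    OrbHyp p q N V where
  hp := h.hp
  hq := h.hq
  ne := h.ne
  exp := h.exp
  cop := fun hd => h.cop (hd.trans (card_subgroup_dvd_card N))
  orb := fun v => by
    obtain ⟨a, ha⟩ := h.index_stab v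
    have hd : (stabilizer N v).index ∣ p ^ a := by
      rw [← ha, show stabilizer N v = (stabilizer H v).subgroupOf N from rfl]
      exact relIndex_dvd_index_normal' (stabilizer H v) N
    obtain ⟨b, -, hb⟩ := (Nat.dvd_prime_pow h.hp).1 hd
    exact ⟨b, by rw [Nat.card_coe_set_eq, ← index_stabilizer, hb]⟩

omit [Finite V] in
/-- A normal subgroup of order prime to `p` is trivial. -/
theorem OrbHyp.eq_bot_of_coprime (h : OrbHyp p q H V) (hf : Faith H V) (N : Subgroup H) [N.Normal]
    (hN : ¬ p ∣ Nat.card N) : N = ⊥ := by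
  refine (eq_bot_iff_forall N).2 fun g hg => hf g fun v => ?_
  obtain ⟨a, ha⟩ := (h.of_normal N).index_stab v
  have h1 : p ^ a ∣ Nat.card N := ha ▸ index_dvd_card _
  have ha0 : a = 0 := by
    by_contra ha0
    exact hN ((dvd_pow_self p ha0).trans h1)
  rw [ha0, pow_zero, index_eq_one] at ha
  exact (ha ▸ mem_top (⟨g, hg⟩ : N) : (⟨g, hg⟩ : N) ∈ stabilizer N v)

omit [Finite V] in
/-- For odd `p` the group has odd order. -/
theorem OrbHyp.odd_card (h : OrbHyp p q H V) (hf : Faith H V) (hp2 : p ≠ 2) :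
    Odd (Nat.card H) := by
  have := Fact.mk Nat.prime_two
  rw [← Nat.not_even_iff_odd, even_iff_two_dvd]
  intro h2
  obtain ⟨z, hz⟩ := exists_prime_orderOf_dvd_card' 2 h2
  have hq2 : q ≠ 2 := fun e => h.cop (e ▸ h2)
  have hzz : z * z = 1 := by rw [← sq, ← hz, pow_orderOf_eq_one]
  obtain ⟨v, hv⟩ : ∃ v : V, z • v ≠ v := by
    by_contra! hall
    exact absurd (hf z hall) fun e => by rw [e, orderOf_one] at hz; norm_num at hz
  set w := z • v - v with hw
  have hw0 : w ≠ 0 := sub_ne_zero.2 hv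
  have hzw : z • w = -w := by rw [hw, smul_sub, ← mul_smul, hzz, one_smul, neg_sub]
  have hww : -w ≠ w := by
    intro e
    have h2w : 2 • w = 0 := by rw [two_nsmul]; nth_rewrite 1 [← e]; exact neg_add_cancel w
    have h3 : addOrderOf w ∣ 2 := addOrderOf_dvd_of_nsmul_eq_zero h2w
    have h4 : addOrderOf w ∣ q := addOrderOf_dvd_of_nsmul_eq_zero (h.exp w)
    have : addOrderOf w ∣ Nat.gcd 2 q := Nat.dvd_gcd h3 h4
    rw [(Nat.coprime_primes Nat.prime_two h.hq).2 (Ne.symm hq2), Nat.dvd_one,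
      AddMonoid.addOrderOf_eq_one_iff] at this
    exact hw0 this
  set T : Subgroup H :=
    { carrier := {g | g • w = w ∨ g • w = -w}
      one_mem' := Or.inl (one_smul _ _)
      mul_mem' := fun {g k} hg hk => by
        rcases hk with hk | hk <;> rcases hg with hg | hg <;>
          simp [mul_smul, hk, hg]
      inv_mem' := fun {g} hg => by
        rcases hg with hg | hg
        · exact Or.inl (inv_smul_eq_iff.2 hg.symm)
        · exact Or.inr (inv_smul_eq_iff.2 (by rw [smul_neg, hg, neg_neg])) } with hT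
  have hle : stabilizer H w ≤ T := fun g hg => Or.inl hg
  have hrel : (stabilizer H w).relIndex T = 2 := by
    rw [relIndex, index_eq_two_iff]
    refine ⟨⟨z, Or.inr hzw⟩, fun ⟨g, hg⟩ => ?_⟩
    simp only [mem_subgroupOf, mem_stabilizer_iff, MulMemClass.mk_mul_mk, mul_smul, hzw,
      smul_neg]
    rcases hg with hg | hg
    · exact Or.inr ⟨hg, by rw [hg]; exact hww⟩
    · exact Or.inl ⟨by rw [hg, neg_neg], by rw [hg]; exact hww⟩
  obtain ⟨a, ha⟩ := h.index_stab w
  have h2a : 2 ∣ p ^ a := ha ▸ hrel ▸ ⟨_, (relIndex_mul_index hle).symm⟩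
  exact hp2 ((Nat.prime_dvd_prime_iff_eq Nat.prime_two h.hp).1
    (Nat.prime_two.dvd_of_dvd_pow h2a)).symm

omit [Finite H] [Finite V] in
/-- An element normalised by `P` fixes no nonzero vector. -/
theorem semiReg_of_normalised {P : Subgroup H} (hirr : Irr P V) (hf : Faith H V) {π : H}
    (hπ1 : π ≠ 1) (hnorm : ∀ σ ∈ P, ∃ k : ℤ, σ⁻¹ * π * σ = π ^ k) {v : V} (hv : π • v = v) :
    v = 0 := by
  let U : AddSubgroup V :=
    { carrier := {u | π • u = u}
      zero_mem' := smul_zero π
      add_mem' := fun {a b} (ha : π • a = a) (hb : π • b = b) => by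
        show π • (a + b) = a + b
        rw [smul_add, ha, hb]
      neg_mem' := fun {a} (ha : π • a = a) => by
        show π • (-a) = -a
        rw [smul_neg, ha] }
  have hinv : ∀ σ ∈ P, ∀ u ∈ U, σ • u ∈ U := by
    intro σ hσ u hu
    obtain ⟨k, hk⟩ := hnorm σ hσ
    show π • σ • u = σ • u
    have hfix : π ^ k • u = u := (zpow_mem (show π ∈ stabilizer H u from hu) k : π ^ k ∈ stabilizer H u)
    rw [← mul_smul, show π * σ = σ * π ^ k by rw [← hk]; group, mul_smul, hfix]
  rcases hirr U hinv with hU | hU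
  · exact AddSubgroup.mem_bot.1 (hU ▸ (hv : v ∈ U))
  · exact absurd (hf π fun u => (hU ▸ AddSubgroup.mem_top u : u ∈ U)) hπ1

/-- A system of blocks permuted by `P`, with prime size, forces solvability. -/
theorem solvable_of_blocks (h : OrbHyp p q H V) (hf : Faith H V) (hN : SolvNormal H)
    (P : Sylow p H) {ι : Type v} [Finite ι] (hι : Nat.card ι = p) (W : ι → AddSubgroup V)
    (hne : ∀ i, W i ≠ ⊥) (hdisj : ∀ i j, i ≠ j → ∀ v, v ∈ W i → v ∈ W j → v = 0)
    (hsum : ∀ i j k, i ≠ j → ∀ a ∈ W i, ∀ b ∈ W j, a ≠ 0 → b ≠ 0 → a + b ∉ W k)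
    (hperm : ∀ π ∈ (P : Subgroup H), ∀ i, ∃ j, ∀ w ∈ W i, π • w ∈ W j)
    (hmove : ∃ π ∈ (P : Subgroup H), ∃ i, ∃ w ∈ W i, π • w ∉ W i) :
    Group.IsSolvable H := by
  classical
  have := Fact.mk h.hp
  have hex : ∀ (g : H) (i : ι), ∃ j, ∀ w ∈ W i, g • w ∈ W j := by
    intro g i
    have hin : ∀ w ∈ W i, ∃ j, g • w ∈ W j := fun w hw => by
      obtain ⟨π, hπ, e⟩ := h.exists_smul P g w
      obtain ⟨j, hj⟩ := hperm π hπ i
      exact ⟨j, e ▸ hj w hw⟩
    obtain ⟨a, ha, ha0⟩ := (W i).bot_or_exists_ne_zero.resolve_left (hne i)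
    obtain ⟨j, hj⟩ := hin a ha
    refine ⟨j, fun w hw => ?_⟩
    by_contra hwj
    obtain ⟨k, hk⟩ := hin w hw
    obtain ⟨l, hl⟩ := hin (a + w) ((W i).add_mem ha hw)
    have hga : g • a ≠ 0 := fun e => ha0 (by simpa using (smul_eq_zero_iff_eq g).1 e)
    have hgw : g • w ≠ 0 := fun e => hwj (e ▸ (W j).zero_mem)
    exact hsum j k l (fun e => hwj (e ▸ hk)) _ hj _ hk hga hgw (smul_add g a w ▸ hl)
  choose f hf' using hex
  have huniq : ∀ (g : H) (i j : ι), (∀ w ∈ W i, g • w ∈ W j) → f g i = j := by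
    intro g i j hj
    by_contra hne'
    obtain ⟨a, ha, ha0⟩ := (W i).bot_or_exists_ne_zero.resolve_left (hne i)
    exact ha0 (by simpa using (smul_eq_zero_iff_eq g).1 (hdisj _ _ hne' _ (hf' g i a ha) (hj a ha)))
  letI act : MulAction H ι :=
    { smul := f
      one_smul := fun i => huniq 1 i i fun w hw => by rwa [one_smul]
      mul_smul := fun g k i => huniq (g * k) i _ fun w hw => by
        rw [mul_smul]; exact hf' g _ _ (hf' k i w hw) }
  set φ := MulAction.toPermHom H ι with hφ
  have hφapp : ∀ g i, φ g i = f g i := fun _ _ => rfl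
  obtain ⟨π, hπ, i, w, hw, hwi⟩ := hmove
  have hfi : f π i ≠ i := fun e => hwi (e ▸ hf' π i w hw)
  have hker : φ.ker ≠ ⊤ := fun e => hfi (by
    have := congrArg (fun σ => σ i) (MonoidHom.mem_ker.1 (e ▸ mem_top π : π ∈ φ.ker))
    simpa [hφapp] using this)
  have hk : Group.IsSolvable φ.ker := hN _ inferInstance hker
  suffices hr : Group.IsSolvable φ.range from
    solvable_of_ker_le_range φ.ker.subtype φ.rangeRestrict
      (by rw [MonoidHom.ker_rangeRestrict, range_subtype])
  by_cases hp2 : p = 2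
  · have hcard : Nat.card φ.range ∣ 2 := by
      have : Fintype ι := Fintype.ofFinite ι
      refine (card_subgroup_dvd_card _).trans ?_
      rw [Nat.card_perm, hι, hp2]; rfl
    have : IsMulCommutative φ.range := by
      rcases (Nat.dvd_prime Nat.prime_two).1 hcard with h1 | h1
      · have := (Nat.card_eq_one_iff_unique.1 h1).1
        exact isMulCommutative_iff.2 fun a b => Subsingleton.elim _ _
      · have : IsCyclic φ.range := isCyclic_of_prime_card h1
        exact IsCyclic.isMulCommutative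
    exact isSolvable_of_comm fun a b => mul_comm' a b
  set g : φ.range := ⟨φ π, π, rfl⟩ with hg
  have htr : IsPretransitive (zpowers g) ι := by
    obtain ⟨k, hk'⟩ := P.isPGroup' ⟨π, hπ⟩
    have hgk : g ^ p ^ k = 1 := Subtype.ext (by
      rw [SubmonoidClass.coe_pow, hg, ← map_pow, show π ^ p ^ k = 1 from congrArg Subtype.val hk',
        map_one]
      rfl)
    have hd : Nat.card (orbit (zpowers g) i) ∣ p ^ k := by
      rw [Nat.card_coe_set_eq, ← index_stabilizer]
      refine (index_dvd_card _).trans ?_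
      rw [Nat.card_zpowers]
      exact orderOf_dvd_of_pow_eq_one hgk
    obtain ⟨e, -, he⟩ := (Nat.dvd_prime_pow h.hp).1 hd
    have he0 : e ≠ 0 := by
      intro e0
      rw [e0, pow_zero, Nat.card_coe_set_eq, Set.ncard_eq_one] at he
      obtain ⟨x, hx⟩ := he
      have h1 : i ∈ orbit (zpowers g) i := mem_orbit_self i
      have h2 : f π i ∈ orbit (zpowers g) i := ⟨⟨g, mem_zpowers g⟩, rfl⟩
      rw [hx, Set.mem_singleton_iff] at h1 h2
      exact hfi (h2.trans h1.symm)
    have hle : p ^ e ≤ p := by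
      rw [← he, ← hι]; exact Finite.card_subtype_le _
    have hall : orbit (zpowers g) i = Set.univ := by
      refine Set.eq_of_subset_of_ncard_le (Set.subset_univ _) ?_
      rw [Set.ncard_univ, hι, ← Nat.card_coe_set_eq, he]
      exact Nat.le_self_pow he0 p
    exact (MulAction.isPretransitive_iff_orbit_eq_univ i).2 hall
  exact solvable_of_cyclic_transitive (α := ι) h.hp 1 g
    ((h.odd_card hf hp2).of_dvd_nat (card_range_dvd _)) (by rw [hι, pow_one])

end Cfsg.Agent.QBaer
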