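import Cfsg.Agent.QBaer.OrbitBasic
import Cfsg.Agent.Fusion.PGroup
import Cfsg.Agent.Fusion.UniqueInvolution

/-!
# A normal noncyclic abelian subgroup of the Sylow subgroup gives blocks
-/

set_option autoImplicit false

namespace Cfsg.Agent.QBaer

open MulAction Subgroup
open scoped commutatorElement

universe u v

/-- A normal noncyclic abelian subgroup of a `p`-group contains a central `z` and an `e` with
`[P, e] ≤ ⟨z⟩`, both of order `p`, generating a group of order `p²`. -/
theorem exists_pair {P : Type u} [Group P] [Finite P] {p : ℕ} [hp : Fact p.Prime]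
    (hP : IsPGroup p P) (A : Subgroup P) [A.Normal] (hA : IsMulCommutative A) (hnc : ¬ IsCyclic A) :
    ∃ z e : P, orderOf z = p ∧ z ∈ center P ∧ e ^ p = 1 ∧ e ∉ zpowers z ∧
      ∀ π : P, ∃ c : ℕ, π * e * π⁻¹ = e * z ^ c := by
  classical
  let Ω : Subgroup P :=
    { carrier := {x | x ∈ A ∧ x ^ p = 1}
      one_mem' := ⟨one_mem A, one_pow p⟩
      mul_mem' := fun {x y} hx hy => ⟨mul_mem hx.1 hy.1, by
        rw [Commute.mul_pow (setLike_mul_comm hx.1 hy.1), hx.2, hy.2, one_mul]⟩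
      inv_mem' := fun {x} hx => ⟨inv_mem hx.1, by rw [inv_pow, hx.2, inv_one]⟩ }
  have hΩn : Ω.Normal := ⟨fun x hx g => ⟨‹A.Normal›.conj_mem x hx.1 g, by
    rw [conj_pow, hx.2, mul_one, mul_inv_cancel]⟩⟩
  have hΩ1 : Ω ≠ ⊥ := by
    intro h
    refine hnc (Fusion.isCyclic_of_unique (hP.to_subgroup A) hA fun u hu v hv hvo hup => ?_)
    have : u = 1 := Subgroup.mem_bot.1 (h ▸ (show u ∈ Ω from ⟨hu, hup⟩))
    exact this ▸ one_mem _
  obtain ⟨Z, hZΩ, hZc, hZn, hZcard⟩ := Fusion.exists_central_card_prime hP Ω hΩ1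
  have hlt : Z < Ω := by
    refine lt_of_le_of_ne hZΩ fun h => ?_
    refine hnc (Fusion.isCyclic_of_unique (hP.to_subgroup A) hA fun u hu v hv hvo hup => ?_)
    have huΩ : u ∈ Z := h ▸ (show u ∈ Ω from ⟨hu, hup⟩)
    have hvΩ : v ∈ Z := h ▸ (show v ∈ Ω from ⟨hv, by rw [← hvo, pow_orderOf_eq_one]⟩)
    have hle : Z ≤ zpowers v := (eq_of_le_of_card_ge (zpowers_le.2 hvΩ)
      (by rw [hZcard, Nat.card_zpowers, hvo])).ge
    exact hle huΩ
  obtain ⟨L, hLn, hZL, hLΩ, hLcard, hcomm⟩ := Fusion.exists_normal_card_succ hP Z Ω hlt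
  have hne : ¬ L ≤ Z := fun h => by
    have := card_le_of_le h
    rw [hLcard, hZcard] at this
    nlinarith [hp.out.two_le]
  obtain ⟨e, heL, heZ⟩ := SetLike.not_le_iff_exists.1 hne
  obtain ⟨z, hz⟩ := exists_prime_orderOf_dvd_card' (G := Z) p hZcard.symm.dvd
  rw [← orderOf_coe] at hz
  have hZeq : zpowers (z : P) = Z := eq_of_le_of_card_ge (zpowers_le.2 z.2)
    (by rw [hZcard, Nat.card_zpowers, hz])
  refine ⟨z, e, hz, hZc z.2, (hLΩ heL).2, fun h => heZ (hZeq ▸ h), fun π => ?_⟩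
  have hmem : e⁻¹ * (π * e * π⁻¹) ∈ Z := by
    have h1 : ⁅e⁻¹, π⁆ ∈ Z := hcomm (commutator_mem_commutator (inv_mem heL) (mem_top π))
    rw [commutatorElement_def, inv_inv] at h1
    rwa [← mul_assoc, ← mul_assoc]
  rw [← hZeq, ← mem_powers_iff_mem_zpowers] at hmem
  obtain ⟨c, hc⟩ := hmem
  exact ⟨c, by rw [show (z : P) ^ c = _ from hc, mul_inv_cancel_left]⟩

variable {p q : ℕ} {H : Type u} [Group H] [Finite H] {V : Type v} [AddCommGroup V] [Finite V]
  [DistribMulAction H V]

omit [Finite H] [Finite V] in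
/-- The orbit sum of an element of order dividing `n` is fixed. -/
theorem smul_geom {g : H} {n : ℕ} (hg : g ^ n = 1) (v : V) :
    g • ∑ l ∈ Finset.range n, g ^ l • v = ∑ l ∈ Finset.range n, g ^ l • v := by
  rw [Finset.smul_sum]
  simp only [smul_smul, ← pow_succ']
  have h1 := Finset.sum_range_succ (fun l => g ^ l • v) n
  have h2 := Finset.sum_range_succ' (fun l => g ^ l • v) n
  rw [h1] at h2
  simp only [hg, pow_zero] at h2
  exact (add_right_cancel h2).symm

/-- A central `z` and an `e` of order `p` with `[P, e] ≤ ⟨z⟩` give blocks. -/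
theorem solvable_of_pair (h : OrbHyp p q H V) (hf : Faith H V) (hN : SolvNormal H)
    [Nontrivial V] (P : Sylow p H) (hirr : Irr (P : Subgroup H) V) {z e : H}
    (hzP : z ∈ (P : Subgroup H)) (hz : orderOf z = p)
    (hzc : ∀ σ ∈ (P : Subgroup H), σ * z = z * σ) (heP : e ∈ (P : Subgroup H)) (he : e ^ p = 1)
    (hez : e ∉ zpowers z)
    (hconj : ∀ π ∈ (P : Subgroup H), ∃ c : ℕ, π * e * π⁻¹ = e * z ^ c) :
    Group.IsSolvable H := by
  have := Fact.mk h.hp
  have hze : Commute e z := hzc e heP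
  have hzp : z ^ p = 1 := by rw [← hz, pow_orderOf_eq_one]
  have hsemi : ∀ k : ℕ, z ^ k ≠ 1 → ∀ v : V, z ^ k • v = v → v = 0 := fun k hk v hv => by
    refine semiReg_of_normalised hirr hf hk (fun σ hσ => ⟨1, ?_⟩) hv
    rw [zpow_one, mul_assoc, ← (Commute.pow_right (show Commute σ z from hzc σ hσ) k).eq,
      inv_mul_cancel_left]
  let gen : ℕ → H := fun i => e * z ^ i
  have hgen : ∀ i, gen i ^ p = 1 := fun i => by
    show (e * z ^ i) ^ p = 1
    rw [(hze.pow_right i).mul_pow, he, ← pow_mul, mul_comm, pow_mul, hzp, one_pow, mul_one]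
  let fix : ℕ → AddSubgroup V := fun i =>
    { carrier := {u | gen i • u = u}
      zero_mem' := smul_zero _
      add_mem' := fun {a b} (ha : gen i • a = a) (hb : gen i • b = b) => by
        show gen i • (a + b) = a + b
        rw [smul_add, ha, hb]
      neg_mem' := fun {a} (ha : gen i • a = a) => by
        show gen i • (-a) = -a
        rw [smul_neg, ha] }
  have hmem : ∀ i u, u ∈ fix i ↔ gen i • u = u := fun _ _ => Iff.rfl
  have hmod : ∀ i j : ℕ, i ≡ j [MOD p] → fix i = fix j := fun i j hij => by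
    show fix i = fix j
    have : gen i = gen j := by
      show e * z ^ i = e * z ^ j
      have hzij : z ^ i = z ^ j := pow_eq_pow_iff_modEq.2 (by rw [hz]; exact hij)
      rw [hzij]
    ext u; rw [hmem, hmem, this]
  have hdisj : ∀ i j : ℕ, ¬ i ≡ j [MOD p] → ∀ v, v ∈ fix i → v ∈ fix j → v = 0 := by
    intro i j hij v hi hj
    rw [hmem] at hi hj
    have e1 : z ^ i • v = z ^ j • v := by
      refine MulAction.injective e ?_
      show e • z ^ i • v = e • z ^ j • v
      rw [← mul_smul, ← mul_smul]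
      exact hi.trans hj.symm
    have hk : ∃ k, z ^ k ≠ 1 ∧ z ^ k • v = v := by
      refine ⟨i + (p - 1) * j, fun hone => hij ?_, ?_⟩
      · rw [← orderOf_dvd_iff_pow_eq_one, hz] at hone
        refine Nat.ModEq.add_right_cancel' ((p - 1) * j) ?_
        have e2 : j + (p - 1) * j = p * j := by
          rw [Nat.sub_mul, one_mul, Nat.add_sub_cancel' (Nat.le_mul_of_pos_left j h.hp.pos)]
        rw [e2]
        exact (Nat.modEq_zero_iff_dvd.2 hone).trans (Nat.modEq_zero_iff_dvd.2 (dvd_mul_right p j)).symm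
      · have hji : z ^ ((p - 1) * j) * z ^ j = 1 := by
          rw [← pow_add, Nat.sub_mul, one_mul, Nat.sub_add_cancel (Nat.le_mul_of_pos_left j h.hp.pos),
            pow_mul, hzp, one_pow]
        rw [add_comm, pow_add, mul_smul, e1, ← mul_smul, hji, one_smul]
    obtain ⟨k, hk1, hk2⟩ := hk
    exact hsemi k hk1 v hk2
  -- some block is nonzero
  have hex : ∃ i, fix i ≠ ⊥ := by
    by_contra! hall
    obtain ⟨v, hv⟩ := exists_ne (0 : V)
    refine hv ?_
    have hT : ∀ i, ∑ k ∈ Finset.range p, gen i ^ k • v = 0 := fun i =>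
      AddSubgroup.mem_bot.1 (hall i ▸ (hmem i _).2 (smul_geom (hgen i) v))
    have hsum : ∑ i ∈ Finset.range p, ∑ k ∈ Finset.range p, gen i ^ k • v = p • v := by
      rw [Finset.sum_comm, Finset.sum_eq_single 0]
      · simp
      · intro k hk hk0
        have e1 : ∀ i, gen i ^ k • v = e ^ k • ((z ^ k) ^ i • v) := fun i => by
          show (e * z ^ i) ^ k • v = _
          rw [(hze.pow_right i).mul_pow, mul_smul, ← pow_mul, ← pow_mul, mul_comm]
        simp only [e1, ← Finset.smul_sum]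
        have hzk : z ^ k ≠ 1 := fun hone => by
          rw [← orderOf_dvd_iff_pow_eq_one, hz] at hone
          exact hk0 (Nat.eq_zero_of_dvd_of_lt hone (Finset.mem_range.1 hk))
        rw [hsemi k hzk _ (smul_geom (by rw [← pow_mul, mul_comm, pow_mul, hzp, one_pow]) v),
          smul_zero]
      · intro h0
        exact absurd (Finset.mem_range.2 h.hp.pos) h0
    simp only [hT, Finset.sum_const_zero] at hsum
    have h2 : addOrderOf v ∣ Nat.gcd p q :=
      Nat.dvd_gcd (addOrderOf_dvd_of_nsmul_eq_zero hsum.symm) (addOrderOf_dvd_of_nsmul_eq_zero (h.exp v))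
    rw [(Nat.coprime_primes h.hp h.hq).2 h.ne, Nat.dvd_one, AddMonoid.addOrderOf_eq_one_iff] at h2
    exact h2
  obtain ⟨i0, hi0⟩ := hex
  have hmap : ∀ π ∈ (P : Subgroup H), ∀ c : ℕ, π * e * π⁻¹ = e * z ^ c →
      ∀ i u, u ∈ fix i → π • u ∈ fix (i + c) := by
    intro π hπ c hc i u hu
    rw [hmem] at hu ⊢
    have e1 : gen (i + c) * π = π * gen i := by
      show e * z ^ (i + c) * π = π * (e * z ^ i)
      have hπi : Commute π (z ^ i) := Commute.pow_right (show Commute π z from hzc π hπ) i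
      rw [← mul_assoc, show π * e = e * z ^ c * π by rw [← hc]; group, mul_assoc (e * z ^ c),
        hπi.eq, ← mul_assoc, mul_assoc e (z ^ c), ← pow_add, add_comm c i]
    rw [← mul_smul, e1, mul_smul, hu]
  obtain ⟨π, hπ, c, hc, hc0⟩ : ∃ π ∈ (P : Subgroup H), ∃ c : ℕ,
      π * e * π⁻¹ = e * z ^ c ∧ ¬ c ≡ 0 [MOD p] := by
    by_contra! hall
    have hinv : ∀ π ∈ (P : Subgroup H), ∀ u ∈ fix i0, π • u ∈ fix i0 := fun π hπ u hu => by
      obtain ⟨c, hc⟩ := hconj π hπ
      rw [hmod i0 (i0 + c) ((Nat.ModEq.add_left i0 (hall π hπ c hc)).symm)]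
      exact hmap π hπ c hc i0 u hu
    rcases hirr _ hinv with hU | hU
    · exact hi0 hU
    · have h1 : gen i0 = 1 := hf _ fun u => (hmem i0 u).1 (hU ▸ AddSubgroup.mem_top u)
      exact hez (eq_inv_of_mul_eq_one_left h1 ▸ inv_mem (npow_mem_zpowers z i0))
  have hcop : c.Coprime p := by
    rw [Nat.coprime_comm, h.hp.coprime_iff_not_dvd]
    exact fun hd => hc0 (Nat.modEq_zero_iff_dvd.2 hd)
  -- every block is nonzero
  have hall : ∀ i, fix i ≠ ⊥ := by
    have hiter : ∀ k, fix (i0 + k * c) ≠ ⊥ := by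
      intro k
      induction k with
      | zero => simpa using hi0
      | succ k ih =>
        obtain ⟨u, hu, hu0⟩ := (fix (i0 + k * c)).bot_or_exists_ne_zero.resolve_left ih
        intro hb
        have := hmap π hπ c hc _ u hu
        rw [add_assoc, ← Nat.succ_mul, hb, AddSubgroup.mem_bot] at this
        exact hu0 ((smul_eq_zero_iff_eq π).1 this)
    intro i
    have := NeZero.mk h.hp.ne_zero
    set k := (((i : ZMod p) - (i0 : ZMod p)) * ((ZMod.unitOfCoprime c hcop)⁻¹ : (ZMod p)ˣ)).val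
    have hk : i0 + k * c ≡ i [MOD p] := by
      rw [← ZMod.natCast_eq_natCast_iff]
      push_cast
      rw [ZMod.natCast_zmod_val, mul_assoc, ← ZMod.coe_unitOfCoprime c hcop, ← Units.val_mul,
        inv_mul_cancel, Units.val_one, mul_one, add_sub_cancel]
    rw [← hmod _ _ hk]
    exact hiter k
  -- the block system
  refine solvable_of_blocks h hf hN P (ι := ULift.{v} (Fin p))
    (by rw [Nat.card_ulift, Nat.card_fin]) (fun i => fix i.down) (fun i => hall _) ?_ ?_ ?_ ?_
  · intro i j hij v hi hj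
    refine hdisj _ _ (fun hm => hij ?_) v hi hj
    have := hm.eq_of_lt_of_lt i.down.2 j.down.2
    exact ULift.ext _ _ (Fin.ext this)
  · intro i j k hij a ha b hb ha0 hb0 hab
    have hne' : ∀ x y : ULift.{v} (Fin p), x ≠ y → ¬ (x.down : ℕ) ≡ y.down [MOD p] := fun x y hxy hm =>
      hxy (ULift.ext _ _ (Fin.ext (hm.eq_of_lt_of_lt x.down.2 y.down.2)))
    by_cases hki : k = i
    · subst hki
      exact hb0 (hdisj _ _ (hne' k j hij) b (by simpa using (fix k.down).sub_mem hab ha) hb)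
    have hcomm' : ∀ x y : ℕ, Commute (gen x) (gen y) := fun x y => by
      show Commute (e * z ^ x) (e * z ^ y)
      refine (Commute.mul_right ?_ ?_)
      · exact (Commute.refl e).mul_left (hze.pow_right x).symm
      · exact (hze.pow_right y).mul_left ((Commute.refl z).pow_pow x y)
    set f := gen k.down with hfdef
    have hfa : gen i.down • (f • a - a) = f • a - a := by
      rw [smul_sub, ← mul_smul, (hcomm' i.down k.down).eq, mul_smul, (hmem _ _).1 ha]
    have hfb : gen j.down • (f • b - b) = f • b - b := by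
      rw [smul_sub, ← mul_smul, (hcomm' j.down k.down).eq, mul_smul, (hmem _ _).1 hb]
    have hz0 : (f • a - a) + (f • b - b) = 0 := by
      have hs := (hmem _ _).1 hab
      rw [smul_add] at hs
      rw [sub_add_sub_comm, sub_eq_zero]
      exact hs
    have hfa0 : f • a - a = 0 := by
      refine hdisj _ _ (hne' i j hij) _ ((hmem _ _).2 hfa) ?_
      rw [eq_neg_of_add_eq_zero_left hz0]
      exact neg_mem ((hmem _ _).2 hfb)
    exact ha0 (hdisj _ _ (hne' i k (Ne.symm hki)) a ha ((hmem _ _).2 (sub_eq_zero.1 hfa0)))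
  · intro σ hσ i
    obtain ⟨d, hd⟩ := hconj σ hσ
    refine ⟨⟨⟨(i.down + d) % p, Nat.mod_lt _ h.hp.pos⟩⟩, fun w hw => ?_⟩
    show σ • w ∈ fix ((i.down + d) % p)
    rw [hmod _ _ (Nat.mod_modEq _ _)]
    exact hmap σ hσ d hd _ w hw
  · refine ⟨π, hπ, ⟨⟨0, h.hp.pos⟩⟩, ?_⟩
    obtain ⟨w, hw, hw0⟩ := (fix 0).bot_or_exists_ne_zero.resolve_left (hall 0)
    refine ⟨w, hw, fun hπw => hw0 ((smul_eq_zero_iff_eq π).1 ?_)⟩
    exact hdisj _ _ (fun hm => hc0 (by simpa using hm)) _ (hmap π hπ c hc 0 w hw) hπw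

end Cfsg.Agent.QBaer
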