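import Cfsg.Agent.QBaer.Orbit
import Cfsg.Agent.S4037
import Cfsg.Agent.Core.PCore
import Cfsg.Agent.Core.Fitting
import Cfsg.Agent.Core.Frattini
import Cfsg.Agent.Layer.Subnormal
import Cfsg.Agent.Coprime.Basic
import Cfsg.Agent.Char.Gagola

/-!
# Groups in which every `q`-element has a class of prime power size
-/

set_option autoImplicit false

namespace Cfsg.Agent.QBaer

open Subgroup

variable {G : Type*} [Group G] [Finite G] {q : ℕ}

/-- Every `q`-element has a conjugacy class of prime power size. -/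
def QB (q : ℕ) (G : Type*) [Group G] : Prop :=
  ∀ x : G, (∃ k : ℕ, orderOf x = q ^ k) →
    ∃ r a : ℕ, r.Prime ∧ (centralizer ({x} : Set G)).index = r ^ a

/-- Subgroups of coprime index factorise the group. -/
theorem exists_mul_of_coprime (C S : Subgroup G) (h : C.index.Coprime S.index) (g : G) :
    ∃ s ∈ S, s⁻¹ * g ∈ C := by
  have hdvd : C.index ∣ C.relIndex S := by
    have h1 : C.index ∣ (C ⊓ S).index := index_dvd_of_le inf_le_left
    rw [← relIndex_mul_index (inf_le_right : C ⊓ S ≤ S), inf_relIndex_right] at h1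
    exact h.dvd_of_dvd_mul_right h1
  have hstab : MulAction.stabilizer S ((1 : G) : G ⧸ C) = C.subgroupOf S := by
    ext s
    rw [MulAction.mem_stabilizer_iff, mem_subgroupOf]
    show ((((s : G) * 1 : G)) : G ⧸ C) = ((1 : G) : G ⧸ C) ↔ _
    rw [mul_one, QuotientGroup.eq, mul_one, inv_mem_iff]
  have hcard : (MulAction.orbit S ((1 : G) : G ⧸ C)).ncard = C.relIndex S := by
    rw [← MulAction.index_stabilizer, hstab]; rfl
  have hall : MulAction.orbit S ((1 : G) : G ⧸ C) = Set.univ := by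
    refine Set.eq_of_subset_of_ncard_le (Set.subset_univ _) ?_
    rw [Set.ncard_univ, hcard]
    exact Nat.le_of_dvd (Nat.pos_of_ne_zero index_ne_zero_of_finite) hdvd
  obtain ⟨s, hs⟩ : (g : G ⧸ C) ∈ MulAction.orbit S ((1 : G) : G ⧸ C) := by rw [hall]; trivial
  refine ⟨s, s.2, ?_⟩
  have hs' : (((s : G) * 1 : G) : G ⧸ C) = (g : G ⧸ C) := hs
  rw [mul_one, QuotientGroup.eq] at hs'
  exact hs'

/-- A `q`-element with class size prime to `q` centralises a Sylow `q`-subgroup. -/
theorem exists_sylow_le_centralizer [hq : Fact q.Prime] {x : G}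
    (h : ¬ q ∣ (centralizer ({x} : Set G)).index) :
    ∃ S : Sylow q G, (S : Subgroup G) ≤ centralizer ({x} : Set G) := by
  obtain ⟨T⟩ := (inferInstance : Nonempty (Sylow q (centralizer ({x} : Set G))))
  set S := (T : Subgroup (centralizer ({x} : Set G))).map (centralizer ({x} : Set G)).subtype with hS
  have hSp : IsPGroup q S := T.isPGroup'.map _
  obtain ⟨P, hP⟩ := hSp.exists_le_sylow
  have hidx : ¬ q ∣ S.index := by
    rw [hS, index_map_subtype]
    exact hq.out.not_dvd_mul T.not_dvd_index h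
  obtain ⟨n, hn⟩ := IsPGroup.iff_card.1 P.isPGroup'
  have h1 := relIndex_mul_index hP
  have h2 : S.relIndex (P : Subgroup G) = 1 := by
    obtain ⟨m, -, hm⟩ := (Nat.dvd_prime_pow hq.out).1
      (hn ▸ (index_dvd_card (S.subgroupOf (P : Subgroup G))))
    rcases Nat.eq_zero_or_pos m with rfl | hm0
    · rw [pow_zero] at hm; exact hm
    · exact absurd ((dvd_pow_self q hm0.ne').trans (hm ▸ ⟨_, h1.symm⟩ : q ^ m ∣ S.index)) hidx
  exact ⟨P, (relIndex_eq_one.1 h2).trans (map_subtype_le _)⟩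

/-- An element with class of `q`-power size has all conjugates in any Sylow subgroup containing it. -/
theorem conj_mem_of_index_pow [hq : Fact q.Prime] (S : Sylow q G) {x : G} (hx : x ∈ (S : Subgroup G))
    {a : ℕ} (ha : (centralizer ({x} : Set G)).index = q ^ a) (g : G) :
    g * x * g⁻¹ ∈ (S : Subgroup G) ∧ ∃ s ∈ (S : Subgroup G), g * x * g⁻¹ = s * x * s⁻¹ := by
  obtain ⟨s, hs, hc⟩ := exists_mul_of_coprime (centralizer ({x} : Set G)) S
    (ha ▸ Nat.Coprime.pow_left a (hq.out.coprime_iff_not_dvd.2 S.not_dvd_index)) g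
  have hcx : s⁻¹ * g * x = x * (s⁻¹ * g) := mem_centralizer_singleton_iff.1 hc
  have e : g * x * g⁻¹ = s * x * s⁻¹ := by
    calc g * x * g⁻¹ = s * (s⁻¹ * g * x) * g⁻¹ := by group
      _ = _ := by rw [hcx]; group
  exact ⟨e ▸ mul_mem (mul_mem hs hx) (inv_mem hs), s, hs, e⟩

/-- The class size does not change under conjugation. -/
theorem index_centralizer_conj (g x : G) :
    (centralizer ({g * x * g⁻¹} : Set G)).index = (centralizer ({x} : Set G)).index := by
  have : centralizer ({g * x * g⁻¹} : Set G) =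
      (centralizer ({x} : Set G)).map (MulAut.conj g).toMonoidHom := by
    ext c
    simp only [mem_map, mem_centralizer_singleton_iff, MulEquiv.coe_toMonoidHom, MulAut.conj_apply]
    constructor
    · intro hc
      refine ⟨g⁻¹ * c * g, ?_, by group⟩
      calc g⁻¹ * c * g * x = g⁻¹ * (c * (g * x * g⁻¹)) * g := by group
        _ = _ := by rw [hc]; group
    · rintro ⟨d, hd, rfl⟩
      calc g * d * g⁻¹ * (g * x * g⁻¹) = g * (d * x) * g⁻¹ := by group
        _ = _ := by rw [hd]; group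
  rw [this]
  exact index_map_equiv (centralizer ({x} : Set G)) (MulAut.conj g)

/-- Passing to a quotient only shrinks classes. -/
theorem index_centralizer_map {G' : Type*} [Group G'] [Finite G'] {f : G →* G'}
    (hf : Function.Surjective f) (x : G) :
    (centralizer ({f x} : Set G')).index ∣ (centralizer ({x} : Set G)).index := by
  have hle : (centralizer ({x} : Set G)).map f ≤ centralizer ({f x} : Set G') := by
    rintro _ ⟨c, hc, rfl⟩
    rw [mem_centralizer_singleton_iff]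
    rw [← map_mul, ← map_mul, mem_centralizer_singleton_iff.1 hc]
  exact (index_dvd_of_le hle).trans (index_map_dvd _ hf)

/-- A `q`-element in a quotient lifts to a `q`-element in a given Sylow subgroup's conjugates. -/
theorem exists_lift [hq : Fact q.Prime] {G' : Type*} [Group G'] [Finite G'] {f : G →* G'}
    (hf : Function.Surjective f) {y : G'} (hy : ∃ k, orderOf y = q ^ k) :
    ∃ x : G, (∃ k, orderOf x = q ^ k) ∧ f x = y := by
  obtain ⟨k, hk⟩ := hy
  obtain ⟨x, rfl⟩ := hf y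
  set m := orderOf x with hm
  set v := m.factorization q with hv
  have hm0 : m ≠ 0 := (orderOf_pos x).ne'
  set m' := m / q ^ v with hm'
  have hmm : q ^ v * m' = m := Nat.ordProj_mul_ordCompl_eq_self m q
  have hcop : (m').Coprime (q ^ k) :=
    Nat.Coprime.pow_right k (Nat.coprime_ordCompl hq.out hm0).symm
  obtain ⟨b, hb⟩ : ∃ b, m' * b ≡ 1 [MOD q ^ k] := by
    rcases Nat.eq_zero_or_pos k with rfl | hk0
    · exact ⟨1, by simp [Nat.modEq_one]⟩
    · exact ⟨(Nat.exists_mul_mod_eq_one_of_coprime hcop (Nat.one_lt_pow hk0.ne' hq.out.one_lt)).choose, by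
        have := (Nat.exists_mul_mod_eq_one_of_coprime hcop (Nat.one_lt_pow hk0.ne' hq.out.one_lt)).choose_spec
        rw [Nat.ModEq, this.2, Nat.one_mod_eq_one.2 (Nat.one_lt_pow hk0.ne' hq.out.one_lt).ne']⟩
  refine ⟨x ^ (m' * b), ?_, ?_⟩
  · have : x ^ (m' * b) ^ 1 = x ^ (m' * b) := by rw [pow_one]
    have h1 : (x ^ (m' * b)) ^ q ^ v = 1 := by
      rw [← pow_mul, mul_comm, ← mul_assoc, hmm, pow_mul, hm, pow_orderOf_eq_one, one_pow]
    obtain ⟨i, -, hi⟩ := (Nat.dvd_prime_pow hq.out).1 (orderOf_dvd_of_pow_eq_one h1)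
    exact ⟨i, hi⟩
  · rw [map_pow]
    conv_rhs => rw [← pow_one (f x)]
    exact pow_eq_pow_iff_modEq.2 (hk ▸ hb)

theorem QB.map [Fact q.Prime] (h : QB q G) {G' : Type*} [Group G'] [Finite G'] {f : G →* G'}
    (hf : Function.Surjective f) : QB q G' := by
  intro y hy
  obtain ⟨x, hx, rfl⟩ := exists_lift hf hy
  obtain ⟨r, a, hr, ha⟩ := h x hx
  obtain ⟨b, -, hb⟩ := (Nat.dvd_prime_pow hr).1 (ha ▸ index_centralizer_map hf x)
  exact ⟨r, b, hr, hb⟩

/-- All `q`-elements lie in a solvable normal subgroup. -/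
theorem QB.exists_solvable (h : QB q G) :
    ∃ L : Subgroup G, L.Normal ∧ Group.IsSolvable L ∧
      ∀ x : G, (∃ k, orderOf x = q ^ k) → x ∈ L := by
  classical
  have : Fintype G := Fintype.ofFinite G
  suffices H : ∀ s : Finset G, (∀ x ∈ s, ∃ k, orderOf x = q ^ k) →
      ∃ L : Subgroup G, L.Normal ∧ Group.IsSolvable L ∧ ∀ x ∈ s, x ∈ L by
    obtain ⟨L, h1, h2, h3⟩ := H (Finset.univ.filter fun x => ∃ k, orderOf x = q ^ k)
      (fun x hx => (Finset.mem_filter.1 hx).2)
    exact ⟨L, h1, h2, fun x hx => h3 x (Finset.mem_filter.2 ⟨Finset.mem_univ _, hx⟩)⟩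
  intro s
  induction s using Finset.induction_on with
  | empty => exact fun _ => ⟨⊥, inferInstance, inferInstance, by simp⟩
  | @insert x s _ ih =>
    intro hs
    obtain ⟨L, hLn, hLs, hL⟩ := ih fun y hy => hs y (Finset.mem_insert_of_mem hy)
    obtain ⟨r, a, hr, ha⟩ := h x (hs x (Finset.mem_insert_self x s))
    have hsol := Agent.S4037.result x hr a (by rw [Char.ncard_carrier, ha])
    have : (normalClosure ({x} : Set G)).Normal := normalClosure_normal
    refine ⟨normalClosure ({x} : Set G) ⊔ L, inferInstance,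
      Layer.isSolvable_sup (by rw [normalizer_eq_top]; exact le_top) hsol hLs, fun y hy => ?_⟩
    rcases Finset.mem_insert.1 hy with rfl | hy
    · exact mem_sup_left (subset_normalClosure (Set.mem_singleton _))
    · exact mem_sup_right (hL y hy)

theorem QB.mem_pCore [hq : Fact q.Prime] (h : QB q G) (hO : Cfsg.pPrimeCore q G = ⊥) {x : G}
    (hx : ∃ k, orderOf x = q ^ k) : x ∈ Cfsg.pCore q G := by
  obtain ⟨r, a, hr, ha⟩ := h x hx
  obtain ⟨k, hk⟩ := hx
  by_cases hrq : r = q
  · subst hrq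
    have hle : normalClosure ({x} : Set G) ≤ Cfsg.pCore r G := by
      have := normalClosure_normal (s := ({x} : Set G))
      obtain ⟨S, hS⟩ := (IsPGroup.of_card (p := r) (G := zpowers x) (n := k)
        (by rw [Nat.card_zpowers, hk])).exists_le_sylow
      refine Core.le_pCore ?_
      refine S.isPGroup'.to_le ?_
      rw [normalClosure, closure_le]
      intro y hy
      obtain ⟨g, hg⟩ := isConj_iff.1 (Group.mem_conjugatesOfSet_iff.1 hy |>.choose_spec.2)
      have hmem := (Group.mem_conjugatesOfSet_iff.1 hy).choose_spec.1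
      rw [Set.mem_singleton_iff] at hmem
      rw [hmem] at hg
      exact hg ▸ (conj_mem_of_index_pow S (hS (mem_zpowers x)) ha g).1
    exact hle (subset_normalClosure (Set.mem_singleton _))
  obtain ⟨L, hLn, hLs, hL⟩ := h.exists_solvable
  obtain ⟨S, hS⟩ := exists_sylow_le_centralizer (q := q) (x := x) (by
    rw [ha]
    exact fun hd => hrq ((Nat.prime_dvd_prime_iff_eq hq.out hr).1 (hq.out.dvd_of_dvd_pow hd)).symm)
  have hxL := hL x ⟨k, hk⟩
  -- the Fitting subgroup of `L` is a `q`-group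
  have hF : (Cfsg.fittingSubgroup L).map L.subtype ≤ Cfsg.pCore q G := by
    rw [Core.fittingSubgroup_eq_iSup_pCore, Subgroup.map_iSup]
    refine iSup_le fun l' => ?_
    obtain ⟨l, hl⟩ := l'
    show (Cfsg.pCore l L).map L.subtype ≤ _
    have := Fact.mk hl
    have := Core.map_pCore_normal (p := l) L
    by_cases hlq : l = q
    · subst hlq
      exact Core.le_pCore (Core.pCore_isPGroup.map L.subtype)
    · have hbot : (Cfsg.pCore l L).map L.subtype ≤ Cfsg.pPrimeCore q G := by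
        refine Core.le_pPrimeCore ?_
        obtain ⟨n, hn⟩ := IsPGroup.iff_card.1 (Core.pCore_isPGroup (p := l) (G := L))
        rw [card_map_of_injective L.subtype_injective, hn]
        exact ((Nat.coprime_primes hl hq.out).2 hlq).pow_left n
      exact hbot.trans (hO.le.trans bot_le)
  have hcent : (⟨x, hxL⟩ : L) ∈ centralizer (Cfsg.fittingSubgroup L : Set L) := by
    refine mem_centralizer_iff.2 fun f hf => Subtype.ext ?_
    have hfx := mem_centralizer_singleton_iff.1 (hS (Core.pCore_le_sylow S (hF ⟨f, hf, rfl⟩)))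
    exact hfx
  exact hF ⟨_, Core.centralizer_fittingSubgroup_le hcent, rfl⟩

/-- `q`-length one. -/
theorem QB.sylow_image_normal [hq : Fact q.Prime] (h : QB q G) (Q : Sylow q G)
    [(Cfsg.pPrimeCore q G).Normal] :
    (Q : Subgroup G).map (QuotientGroup.mk' (Cfsg.pPrimeCore q G)) =
      Cfsg.pCore q (G ⧸ Cfsg.pPrimeCore q G) := by
  have hs := QuotientGroup.mk'_surjective (Cfsg.pPrimeCore q G)
  refine le_antisymm ?_ (Core.pCore_le_sylow (Q.mapSurjective hs))
  rintro _ ⟨x, hx, rfl⟩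
  refine (h.map hs).mem_pCore Core.pPrimeCore_quotient_eq_bot ?_
  obtain ⟨k, hk⟩ := IsPGroup.iff_orderOf.1 Q.isPGroup' ⟨x, hx⟩
  have hx' : orderOf x = q ^ k := (orderOf_mk x hx) ▸ hk
  obtain ⟨j, -, hj⟩ := (Nat.dvd_prime_pow hq.out).1
    (hx' ▸ orderOf_map_dvd (QuotientGroup.mk' (Cfsg.pPrimeCore q G)) x)
  exact ⟨j, hj⟩

/-- A Sylow element whose class size is prime to `q` is central in the Sylow subgroup. -/
theorem QB.central_of_coprime [hq : Fact q.Prime] (h : QB q G) (Q : Sylow q G) {x : G}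
    (hx : x ∈ (Q : Subgroup G)) (hidx : ¬ q ∣ (centralizer ({x} : Set G)).index) :
    ∀ y ∈ (Q : Subgroup G), y * x = x * y := by
  have : (Cfsg.pPrimeCore q G).Normal := Core.pPrimeCore_normal
  obtain ⟨S, hS⟩ := exists_sylow_le_centralizer hidx
  intro y hy
  set f := QuotientGroup.mk' (Cfsg.pPrimeCore q G) with hf
  have hmem : f y ∈ (S : Subgroup G).map f := by
    rw [h.sylow_image_normal S, ← h.sylow_image_normal Q]; exact ⟨y, hy, rfl⟩
  obtain ⟨s, hs, e⟩ := hmem
  have hsx : s * x = x * s := mem_centralizer_singleton_iff.1 (hS hs)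
  have hc : y * x * (x * y)⁻¹ ∈ Cfsg.pPrimeCore q G := by
    rw [← QuotientGroup.eq_one_iff]
    show f (y * x * (x * y)⁻¹) = 1
    rw [map_mul, map_inv, map_mul, map_mul, ← e, ← map_mul, ← map_mul, hsx, mul_inv_cancel]
  have hQ1 : y * x * (x * y)⁻¹ ∈ (Q : Subgroup G) :=
    mul_mem (mul_mem hy hx) (inv_mem (mul_mem hx hy))
  obtain ⟨k, hk⟩ := IsPGroup.iff_orderOf.1 Q.isPGroup' ⟨_, hQ1⟩
  rw [orderOf_mk] at hk
  have h1 : orderOf (y * x * (x * y)⁻¹) ∣ Nat.card (Cfsg.pPrimeCore q G) := by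
    rw [← orderOf_mk _ hc]; exact orderOf_dvd_natCard _
  have h2 : orderOf (y * x * (x * y)⁻¹) = 1 := by
    refine Nat.eq_one_of_dvd_one ?_
    have := Nat.dvd_gcd h1 (dvd_refl (orderOf (y * x * (x * y)⁻¹)))
    nth_rewrite 2 [hk] at this
    rwa [(Core.coprime_card_pPrimeCore.pow_right k).gcd_eq_one] at this
  exact mul_inv_eq_one.1 (orderOf_eq_one_iff.1 h2)

/-- If elements with `q`-power class size generate `Q`, then `Q` is a direct factor. -/
theorem QB.direct [hq : Fact q.Prime] (Q : Sylow q G)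
    (hgen : (Q : Subgroup G) ≤ closure {x : G | x ∈ (Q : Subgroup G) ∧
      ∃ a, (centralizer ({x} : Set G)).index = q ^ a}) :
    (Q : Subgroup G).Normal ∧
      (∀ x : G, (∃ k, orderOf x = q ^ k) → ∃ a, (centralizer ({x} : Set G)).index = q ^ a) ∧
      ∃ N : Subgroup G, N.Normal ∧ N.IsComplement' (Q : Subgroup G) := by
  set T := {x : G | x ∈ (Q : Subgroup G) ∧ ∃ a, (centralizer ({x} : Set G)).index = q ^ a} with hT
  have hQeq : closure T = (Q : Subgroup G) :=
    le_antisymm ((closure_le _).2 fun x hx => hx.1) hgen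
  have hQn : (Q : Subgroup G).Normal := by
    refine ⟨fun n hn g => ?_⟩
    have hle : (Q : Subgroup G) ≤ (Q : Subgroup G).comap (MulAut.conj g).toMonoidHom := by
      nth_rewrite 1 [← hQeq]
      rw [closure_le]
      rintro x ⟨hx, a, ha⟩
      exact (conj_mem_of_index_pow Q hx ha g).1
    exact hle hn
  have hcent : ∀ g : G, (orderOf g).Coprime q → ∀ x ∈ (Q : Subgroup G), g * x = x * g := by
    intro g hg
    have hnorm : zpowers g ≤ normalizer ((Q : Subgroup G) : Set G) := by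
      rw [normalizer_eq_top]; exact le_top
    have := Q.isPGroup'.isNilpotent
    obtain ⟨n, hn⟩ := IsPGroup.iff_card.1
      (Q.isPGroup'.to_subgroup (frattini (Q : Subgroup G)))
    have h := Coprime.le_centralizer_of_trivial_mod_frattini hnorm
      (by rw [Nat.card_zpowers, hn]; exact hg.pow_right n) ?_
    · intro x hx
      exact (mem_centralizer_iff.1 (h (mem_zpowers g)) x hx).symm
    intro w _ k hk
    set F := (frattini (Q : Subgroup G)).map (Q : Subgroup G).subtype with hF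
    have hcomm : ∀ s ∈ (Q : Subgroup G), ∀ y ∈ (Q : Subgroup G), s * y * s⁻¹ * y⁻¹ ∈ F := by
      intro s hs y hy
      refine ⟨(⟨s, hs⟩ : (Q : Subgroup G)) * ⟨y, hy⟩ * ⟨s, hs⟩⁻¹ * ⟨y, hy⟩⁻¹,
        Core.commutator_le_frattini ?_, rfl⟩
      rw [_root_.commutator_def]
      exact commutator_mem_commutator (mem_top _) (mem_top _)
    have hFn : ∀ s ∈ (Q : Subgroup G), ∀ z ∈ F, s * z * s⁻¹ ∈ F := by
      rintro s hs _ ⟨z, hz, rfl⟩
      exact ⟨⟨s, hs⟩ * z * ⟨s, hs⟩⁻¹,
        (inferInstance : (frattini (Q : Subgroup G)).Normal).conj_mem z hz _, rfl⟩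
    let D : Subgroup G :=
      { carrier := {y | y ∈ (Q : Subgroup G) ∧ w * y * w⁻¹ * y⁻¹ ∈ F}
        one_mem' := ⟨one_mem _, by simp⟩
        mul_mem' := fun {a b} ha hb => ⟨mul_mem ha.1 hb.1, by
          have e : w * (a * b) * w⁻¹ * (a * b)⁻¹ =
              (w * a * w⁻¹ * a⁻¹) * (a * (w * b * w⁻¹ * b⁻¹) * a⁻¹) := by group
          rw [e]; exact mul_mem ha.2 (hFn a ha.1 _ hb.2)⟩
        inv_mem' := fun {a} ha => ⟨inv_mem ha.1, by
          have e : w * a⁻¹ * w⁻¹ * a⁻¹⁻¹ = a⁻¹ * (w * a * w⁻¹ * a⁻¹)⁻¹ * a⁻¹⁻¹ := by group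
          rw [e]; exact hFn _ (inv_mem ha.1) _ (inv_mem ha.2)⟩ }
    have hD : closure T ≤ D := by
      rw [closure_le]
      rintro x ⟨hx, a, ha⟩
      obtain ⟨-, s, hs, e⟩ := conj_mem_of_index_pow Q hx ha w
      refine ⟨hx, ?_⟩
      rw [e]
      exact hcomm s hs x hx
    exact (hD (hgen hk)).2
  have hidx : ∀ x ∈ (Q : Subgroup G), ∃ a, (centralizer ({x} : Set G)).index = q ^ a := by
    intro x hx
    refine ⟨_, Nat.eq_prime_pow_of_unique_prime_dvd index_ne_zero_of_finite fun {l} hl hdvd => ?_⟩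
    by_contra hlq
    have := Fact.mk hl
    obtain ⟨R⟩ := (inferInstance : Nonempty (Sylow l G))
    have hR : (R : Subgroup G) ≤ centralizer ({x} : Set G) := fun g hg => by
      obtain ⟨k, hk⟩ := IsPGroup.iff_orderOf.1 R.isPGroup' ⟨g, hg⟩
      rw [orderOf_mk] at hk
      exact mem_centralizer_singleton_iff.2
        (hcent g (hk ▸ ((Nat.coprime_primes hl hq.out).2 hlq).pow_left k) x hx)
    exact R.not_dvd_index (hdvd.trans (index_dvd_of_le hR))
  refine ⟨hQn, fun x ⟨k, hk⟩ => hidx x ?_, ?_⟩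
  · obtain ⟨S, hS⟩ := (IsPGroup.of_card (p := q) (G := zpowers x) (n := k)
      (by rw [Nat.card_zpowers, hk])).exists_le_sylow
    have := Sylow.unique_of_normal Q hQn
    have e : S = Q := Subsingleton.elim _ _
    exact e ▸ hS (mem_zpowers x)
  · obtain ⟨K, hK⟩ := exists_right_complement'_of_coprime (Q.card_coprime_index)
    have hKcop : ∀ k ∈ K, ∀ x ∈ (Q : Subgroup G), k * x = x * k := fun k hk => by
      refine hcent k (Nat.Coprime.symm (hq.out.coprime_iff_not_dvd.2 fun hd => Q.not_dvd_index ?_))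
      rw [hK.symm.index_eq_card]
      exact hd.trans (orderOf_mk k hk ▸ orderOf_dvd_natCard (⟨k, hk⟩ : K))
    refine ⟨K, ⟨fun n hn g => ?_⟩, hK.symm⟩
    obtain ⟨⟨⟨s, hs⟩, ⟨k, hk⟩⟩, rfl, -⟩ := isComplement_iff_existsUnique.1 hK g
    show s * k * n * (s * k)⁻¹ ∈ K
    have h1 : k * n * k⁻¹ ∈ K := mul_mem (mul_mem hk hn) (inv_mem hk)
    have e : s * k * n * (s * k)⁻¹ = s * (k * n * k⁻¹) * s⁻¹ := by group
    rw [e, ← hKcop _ h1 s hs, mul_inv_cancel_right]
    exact h1

/-- Otherwise `Q` is abelian and one prime serves for all `q`-elements. -/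
theorem QB.exists_prime [hq : Fact q.Prime] (h : QB q G) (Q : Sylow q G)
    (hgen : ¬ (Q : Subgroup G) ≤ closure {x : G | x ∈ (Q : Subgroup G) ∧
      ∃ a, (centralizer ({x} : Set G)).index = q ^ a}) :
    (∀ a ∈ (Q : Subgroup G), ∀ b ∈ (Q : Subgroup G), a * b = b * a) ∧
      ∃ p : ℕ, p.Prime ∧ p ≠ q ∧
        ∀ x : G, (∃ k, orderOf x = q ^ k) → ∃ a, (centralizer ({x} : Set G)).index = p ^ a := by
  obtain ⟨x₀, hx₀, hx₀T⟩ := SetLike.not_le_iff_exists.1 hgen
  set T := {x : G | x ∈ (Q : Subgroup G) ∧ ∃ a, (centralizer ({x} : Set G)).index = q ^ a} with hT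
  have hQel : ∀ x ∈ (Q : Subgroup G), ∃ k, orderOf x = q ^ k := fun x hx => by
    obtain ⟨k, hk⟩ := IsPGroup.iff_orderOf.1 Q.isPGroup' ⟨x, hx⟩
    exact ⟨k, by rw [← hk, orderOf_mk]⟩
  have hnotT : ∀ x ∈ (Q : Subgroup G), x ∉ T → ∀ y ∈ (Q : Subgroup G), y * x = x * y := by
    intro x hx hxT
    obtain ⟨r, a, hr, ha⟩ := h x (hQel x hx)
    refine h.central_of_coprime Q hx fun hd => hxT ⟨hx, a, ?_⟩
    rw [ha] at hd ⊢
    rw [(Nat.prime_dvd_prime_iff_eq hq.out hr).1 (hq.out.dvd_of_dvd_pow hd)]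
  have hc₀ := hnotT x₀ hx₀ fun h' => hx₀T (subset_closure h')
  have hab : ∀ a ∈ (Q : Subgroup G), ∀ b ∈ (Q : Subgroup G), a * b = b * a := by
    intro a ha b hb
    by_contra hne
    have haT : a ∈ T := by_contra fun h' => hne (hnotT a ha h' b hb).symm
    have hxaT : x₀ * a ∈ T := by
      by_contra h'
      refine hne ?_
      have h1 := hnotT _ (mul_mem hx₀ ha) h' b hb
      rw [← mul_assoc, hc₀ b hb, mul_assoc, mul_assoc] at h1
      exact (mul_left_cancel h1).symm
    exact hx₀T (by simpa using mul_mem (subset_closure hxaT) (inv_mem (subset_closure haT)))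
  -- the class sizes are prime to `q`
  have hcop : ∀ x ∈ (Q : Subgroup G), ¬ q ∣ (centralizer ({x} : Set G)).index := fun x hx hd => by
    have hle : (Q : Subgroup G) ≤ centralizer ({x} : Set G) := fun y hy =>
      mem_centralizer_singleton_iff.2 (hab y hy x hx)
    exact Q.not_dvd_index (hd.trans (index_dvd_of_le hle))
  refine ⟨hab, ?_⟩
  obtain ⟨r, a, hr, ha⟩ := h x₀ (hQel x₀ hx₀)
  have ha0 : a ≠ 0 := by
    intro e
    exact hx₀T (subset_closure ⟨hx₀, 0, by rw [ha, e]; simp⟩)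
  have hrq : r ≠ q := fun e => hcop x₀ hx₀ (ha ▸ e ▸ dvd_pow_self r ha0)
  refine ⟨r, hr, hrq, ?_⟩
  suffices key : ∀ y ∈ (Q : Subgroup G), ∀ s b : ℕ, s.Prime → b ≠ 0 →
      (centralizer ({y} : Set G)).index = s ^ b → s = r by
    intro x hxq
    obtain ⟨k, hk⟩ := hxq
    obtain ⟨S, hS⟩ := (IsPGroup.of_card (p := q) (G := zpowers x) (n := k)
      (by rw [Nat.card_zpowers, hk])).exists_le_sylow
    obtain ⟨g, hg⟩ := MulAction.exists_smul_eq G S Q
    have hgx : g * x * g⁻¹ ∈ (Q : Subgroup G) := by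
      rw [← hg]; exact ⟨x, hS (mem_zpowers x), rfl⟩
    obtain ⟨s, b, hs, hb⟩ := h (g * x * g⁻¹) (hQel _ hgx)
    rw [← index_centralizer_conj g x, hb]
    rcases Nat.eq_zero_or_pos b with rfl | hb0
    · exact ⟨0, by simp⟩
    · exact ⟨b, by rw [key _ hgx s b hs hb0.ne' hb]⟩
  intro y hy s b hs hb0 hb
  by_contra hsr
  have hsq : s ≠ q := fun e => hcop y hy (hb ▸ e ▸ dvd_pow_self s hb0)
  have hrs : (r ^ a).Coprime (s ^ b) :=
    Nat.Coprime.pow a b ((Nat.coprime_primes hr hs).2 (Ne.symm hsr))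
  -- the product of two classes is a class
  have hprod : ∀ g k : G, ∃ c : G, g * x₀ * g⁻¹ = c * x₀ * c⁻¹ ∧ k * y * k⁻¹ = c * y * c⁻¹ := by
    intro g k
    obtain ⟨c, hc, hc'⟩ := exists_mul_of_coprime (centralizer ({y} : Set G))
      (centralizer ({x₀} : Set G)) (by rw [hb, ha]; exact hrs.symm) (g⁻¹ * k)
    have h1 : c * x₀ = x₀ * c := mem_centralizer_singleton_iff.1 hc
    have h2 : c⁻¹ * (g⁻¹ * k) * y = y * (c⁻¹ * (g⁻¹ * k)) := mem_centralizer_singleton_iff.1 hc'
    refine ⟨g * c, ?_, ?_⟩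
    · calc g * x₀ * g⁻¹ = g * (x₀ * c) * c⁻¹ * g⁻¹ := by group
        _ = _ := by rw [← h1]; group
    · calc k * y * k⁻¹ = g * c * (c⁻¹ * (g⁻¹ * k) * y) * k⁻¹ := by group
        _ = _ := by rw [h2]; group
  set cl : G → Set G := fun x => {z | ∃ g : G, g * x * g⁻¹ = z} with hcl
  have hclcard : ∀ x : G, (cl x).ncard = (centralizer ({x} : Set G)).index := fun x => by
    rw [← Char.ncard_carrier]
    congr 1
    ext z
    rw [ConjClasses.mem_carrier_iff_mk_eq, ConjClasses.mk_eq_mk_iff_isConj]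
    exact ⟨fun ⟨g, hg⟩ => (isConj_iff.2 ⟨g, hg⟩).symm, fun h => isConj_iff.1 h.symm⟩
  have hsub : ∀ u ∈ cl x₀, ∀ v ∈ cl y, u * v ∈ cl (x₀ * y) := by
    rintro u ⟨g, rfl⟩ v ⟨k, rfl⟩
    obtain ⟨c, e1, e2⟩ := hprod g k
    exact ⟨c, by rw [e1, e2]; group⟩
  have hle : centralizer ({x₀} : Set G) ⊓ centralizer ({y} : Set G) ≤
      centralizer ({x₀ * y} : Set G) := fun c hc => by
    rw [mem_centralizer_singleton_iff]
    rw [← mul_assoc, mem_centralizer_singleton_iff.1 hc.1, mul_assoc,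
      mem_centralizer_singleton_iff.1 hc.2, mul_assoc]
  have hdvd : (centralizer ({x₀ * y} : Set G)).index ∣ r ^ a * s ^ b := by
    refine (index_dvd_of_le hle).trans ?_
    have := index_inf_le (H := centralizer ({x₀} : Set G)) (K := centralizer ({y} : Set G))
    have h1 : r ^ a ∣ (centralizer ({x₀} : Set G) ⊓ centralizer ({y} : Set G)).index :=
      ha ▸ index_dvd_of_le inf_le_left
    have h2 : s ^ b ∣ (centralizer ({x₀} : Set G) ⊓ centralizer ({y} : Set G)).index :=
      hb ▸ index_dvd_of_le inf_le_right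
    have h3 := hrs.mul_dvd_of_dvd_of_dvd h1 h2
    rw [ha, hb] at this
    exact dvd_of_eq (le_antisymm this (Nat.le_of_dvd (Nat.pos_of_ne_zero index_ne_zero_of_finite) h3))
  obtain ⟨t, c, ht, hc⟩ := h _ (hQel _ (mul_mem hx₀ hy))
  -- both factors inject
  have hy1 : y ∈ cl y := ⟨1, by simp⟩
  have hx1 : x₀ ∈ cl x₀ := ⟨1, by simp⟩
  have hra : r ^ a ≤ t ^ c := by
    rw [← hc, ← ha, ← hclcard, ← hclcard,
      ← Set.ncard_image_of_injective (cl x₀) (mul_left_injective y)]
    exact Set.ncard_le_ncard (by rintro _ ⟨u, hu, rfl⟩; exact hsub u hu y hy1) (Set.toFinite _)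
  have hsb : s ^ b ≤ t ^ c := by
    rw [← hc, ← hb, ← hclcard, ← hclcard,
      ← Set.ncard_image_of_injective (cl y) (mul_right_injective x₀)]
    exact Set.ncard_le_ncard (by rintro _ ⟨v, hv, rfl⟩; exact hsub x₀ hx1 v hv) (Set.toFinite _)
  -- symmetric conclusion: a class is stable under a normal subgroup
  have final : ∀ (x z : G) (r a s b : ℕ), r.Prime → s.Prime → r ≠ s → b ≠ 0 →
      (∀ u ∈ cl x, ∀ v ∈ cl z, u * v ∈ cl (x * z)) →
      (centralizer ({x * z} : Set G)).index ≤ r ^ a →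
      (centralizer ({x} : Set G)).index = r ^ a → (centralizer ({z} : Set G)).index = s ^ b →
      (∃ k, orderOf z = q ^ k) → r ≠ q → False := by
    intro x z r a s b hr hs hrs' hb0 hsub' hle' ha hb hzord hrq
    have hr' := Fact.mk hr
    have heq : ∀ v ∈ cl z, (· * v) '' cl x = cl (x * z) := fun v hv => by
      refine Set.eq_of_subset_of_ncard_le (by rintro _ ⟨u, hu, rfl⟩; exact hsub' u hu v hv) ?_ (Set.toFinite _)
      rw [Set.ncard_image_of_injective _ (mul_left_injective v), hclcard, hclcard, ha]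
      exact hle'
    let T : Subgroup G :=
      { carrier := {w | ∀ u, u * w ∈ cl x ↔ u ∈ cl x}
        one_mem' := fun u => by rw [mul_one]
        mul_mem' := fun {w w'} hw hw' u => by rw [← mul_assoc, hw' (u * w), hw u]
        inv_mem' := fun {w} hw u => by rw [← hw (u * w⁻¹), inv_mul_cancel_right] }
    have hclconj : ∀ g u : G, u ∈ cl x → g * u * g⁻¹ ∈ cl x := by
      rintro g _ ⟨k, rfl⟩
      exact ⟨g * k, by group⟩
    have hTn : T.Normal := ⟨fun w hw g u => by
      constructor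
      · intro hu
        have h1 := hclconj g⁻¹ _ hu
        have e : g⁻¹ * (u * (g * w * g⁻¹)) * g⁻¹⁻¹ = g⁻¹ * u * g * w := by group
        rw [e, hw] at h1
        simpa [mul_assoc] using hclconj g _ h1
      · intro hu
        have h1 := (hw (g⁻¹ * u * g)).2 (by simpa using hclconj g⁻¹ u hu)
        have := hclconj g _ h1
        simpa [mul_assoc] using this⟩
    have hdiff : ∀ v ∈ cl z, v * z⁻¹ ∈ T := by
      intro v hv u
      have h1 := heq v hv
      have h2 := heq z ⟨1, by simp⟩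
      constructor
      · intro hu
        have : u * (v * z⁻¹) * z ∈ cl (x * z) := h2 ▸ ⟨_, hu, rfl⟩
        rw [show u * (v * z⁻¹) * z = u * v by group, ← h1] at this
        obtain ⟨u', hu', e⟩ := this
        exact (mul_right_cancel e) ▸ hu'
      · intro hu
        have : u * v ∈ cl (x * z) := h1 ▸ ⟨_, hu, rfl⟩
        rw [← h2] at this
        obtain ⟨u', hu', e⟩ := this
        have : u' = u * (v * z⁻¹) := by rw [← mul_assoc, ← e]; group
        exact this ▸ hu'
    have hTp : IsPGroup r T := by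
      refine IsPGroup.of_card (n := (Nat.card T).primeFactorsList.length)
        (Nat.eq_prime_pow_of_unique_prime_dvd Nat.card_pos.ne' fun {l} hl hld => ?_)
      by_contra hlr
      have := Fact.mk hl
      obtain ⟨w, hw⟩ := exists_prime_orderOf_dvd_card' l hld
      let σ : Equiv.Perm (cl x) :=
        { toFun := fun u => ⟨(u : G) * w, (w.2 u).2 u.2⟩
          invFun := fun u => ⟨(u : G) * (w : G)⁻¹, (inv_mem w.2 (u : G)).2 u.2⟩
          left_inv := fun u => Subtype.ext (by simp)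
          right_inv := fun u => Subtype.ext (by simp) }
      have hpow : ∀ (n : ℕ) (u : cl x), ((σ ^ n) u : G) = u * (w : G) ^ n := by
        intro n
        induction n with
        | zero => intro u; simp
        | succ n ih => intro u; rw [pow_succ, Equiv.Perm.mul_apply, ih, pow_succ', ← mul_assoc]; rfl
      have hσ : σ ^ l ^ 1 = 1 := Equiv.ext fun u => Subtype.ext (by
        rw [hpow, pow_one, ← SubmonoidClass.coe_pow, ← hw, pow_orderOf_eq_one]
        simp)
      have : Fintype (cl x) := Fintype.ofFinite _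
      classical
      have hsupp : σ.supportᶜ.card = 0 := by
        rw [Finset.card_eq_zero, Finset.eq_empty_iff_forall_notMem]
        intro u hu
        simp only [Finset.mem_compl, Equiv.Perm.mem_support, not_not] at hu
        have h1 := congrArg Subtype.val hu
        have : (w : G) = 1 := mul_left_cancel (a := (u : G)) (by rw [mul_one]; exact h1)
        rw [← orderOf_coe, this, orderOf_one] at hw
        exact hl.one_lt.ne hw
      have hmod := Equiv.Perm.card_compl_support_modEq hσ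
      rw [hsupp, ← Nat.card_eq_fintype_card, Nat.card_coe_set_eq, hclcard, ha] at hmod
      exact hlr ((Nat.prime_dvd_prime_iff_eq hl hr).1
        (hl.dvd_of_dvd_pow ((Nat.modEq_zero_iff_dvd).1 hmod.symm)))
    have hTC : T ≤ centralizer ({z} : Set G) := by
      have h1 := relIndex_dvd_index_normal' (centralizer ({z} : Set G)) T
      rw [hb] at h1
      obtain ⟨n, hn⟩ := IsPGroup.iff_card.1 hTp
      have h2 : (centralizer ({z} : Set G)).relIndex T ∣ r ^ n :=
        hn ▸ index_dvd_card ((centralizer ({z} : Set G)).subgroupOf T)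
      have h3 := Nat.dvd_gcd h2 h1
      rw [(Nat.Coprime.pow n b ((Nat.coprime_primes hr hs).2 hrs')).gcd_eq_one, Nat.dvd_one] at h3
      exact relIndex_eq_one.1 h3
    have hzc : ∀ v ∈ cl z, v = z := by
      intro v hv
      obtain ⟨g, hg⟩ := hv
      set w := v * z⁻¹ with hwdef
      have hwT : w ∈ T := hdiff v ⟨g, hg⟩
      have hcomm : Commute w z := mem_centralizer_singleton_iff.1 (hTC hwT)
      have hvo : orderOf v = orderOf z := by
        rw [← hg, show g * z * g⁻¹ = MulAut.conj g z from rfl, MulEquiv.orderOf_eq]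
      have h1 : w ^ orderOf z = 1 := by
        have e : (w * z) ^ orderOf z = 1 := by
          rw [show w * z = v by rw [hwdef, inv_mul_cancel_right], ← hvo, pow_orderOf_eq_one]
        rwa [hcomm.mul_pow, pow_orderOf_eq_one, mul_one] at e
      obtain ⟨n, hn⟩ := IsPGroup.iff_orderOf.1 hTp ⟨w, hwT⟩
      rw [orderOf_mk] at hn
      obtain ⟨k, hk⟩ := hzord
      have h2 : orderOf w ∣ Nat.gcd (r ^ n) (q ^ k) :=
        Nat.dvd_gcd hn.dvd (hk ▸ orderOf_dvd_of_pow_eq_one h1)
      rw [(Nat.Coprime.pow n k ((Nat.coprime_primes hr hq.out).2 hrq)).gcd_eq_one, Nat.dvd_one,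
        orderOf_eq_one_iff, hwdef, mul_inv_eq_one] at h2
      exact h2
    have : (cl z).ncard = 1 := Set.ncard_eq_one.2 ⟨z, Set.eq_singleton_iff_unique_mem.2
      ⟨⟨1, by simp⟩, hzc⟩⟩
    rw [hclcard, hb] at this
    exact absurd this (Nat.one_lt_pow hb0 hs.one_lt).ne'
  have hc0 : c ≠ 0 := by
    intro e
    rw [e, pow_zero] at hra
    exact absurd hra (not_le.2 (Nat.one_lt_pow ha0 hr.one_lt))
  rw [hc] at hdvd
  have htrs : t = r ∨ t = s := by
    rcases (Nat.Prime.dvd_mul ht).1 ((dvd_pow_self t hc0).trans hdvd) with h' | h'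
    · exact Or.inl ((Nat.prime_dvd_prime_iff_eq ht hr).1 (ht.dvd_of_dvd_pow h'))
    · exact Or.inr ((Nat.prime_dvd_prime_iff_eq ht hs).1 (ht.dvd_of_dvd_pow h'))
  rcases htrs with e | e
  · have h5 : t ^ c ∣ r ^ a :=
      (e ▸ (Nat.Coprime.pow c b ((Nat.coprime_primes hr hs).2 (Ne.symm hsr)))).dvd_of_dvd_mul_right hdvd
    exact final x₀ y r a s b hr hs (Ne.symm hsr) hb0 hsub
      (hc ▸ Nat.le_of_dvd (pow_pos hr.pos a) h5) ha hb (hQel y hy) hrq
  · have h5 : t ^ c ∣ s ^ b :=
      (e ▸ (Nat.Coprime.pow c a ((Nat.coprime_primes hs hr).2 hsr))).dvd_of_dvd_mul_left hdvd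
    have hxy : y * x₀ = x₀ * y := hab y hy x₀ hx₀
    refine final y x₀ s b r a hs hr hsr ha0 ?_ ?_ hb ha (hQel x₀ hx₀) hsq
    · rintro u ⟨g, rfl⟩ v ⟨k, rfl⟩
      obtain ⟨c', e1, e2⟩ := hprod k g
      refine ⟨c', ?_⟩
      rw [e1, e2]; group
    · rw [hxy, hc]
      exact Nat.le_of_dvd (pow_pos hs.pos b) h5

/-- A Sylow `q`-subgroup is normal if the `p`-core is trivial. -/
theorem QB.normal_of_pCore_eq_bot [hq : Fact q.Prime] (h : QB q G) (S : Sylow q G) {p : ℕ}
    (hp : p.Prime) (hbot : Cfsg.pCore p G = ⊥)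
    (hidx : ∀ x : G, (∃ k, orderOf x = q ^ k) → ∃ a, (centralizer ({x} : Set G)).index = p ^ a) :
    (S : Subgroup G).Normal := by
  obtain ⟨L, hLn, hLs, hL⟩ := h.exists_solvable
  have hOn : (Cfsg.pPrimeCore q (G)).Normal := Core.pPrimeCore_normal
  set N := Cfsg.pPrimeCore q (G) with hN
  set N0 := N ⊓ L with hN0
  have hN0s : Group.IsSolvable N0 :=
    Group.isSolvable_of_isSolvable_injective (f := inclusion (inf_le_right : N0 ≤ L)) (inclusion_injective _)
  have hN0cop : ∀ n ∈ N0, (orderOf n).Coprime q := fun n hn =>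
    (Core.coprime_card_pPrimeCore (G := G) (p := q)).coprime_dvd_left
      (orderOf_mk n hn.1 ▸ orderOf_dvd_natCard (⟨n, hn.1⟩ : N))
  have hQel : ∀ x ∈ (S : Subgroup G), ∃ k, orderOf x = q ^ k := fun x hx => by
    obtain ⟨k, hk⟩ := IsPGroup.iff_orderOf.1 S.isPGroup' ⟨x, hx⟩
    exact ⟨k, by rw [← hk, orderOf_mk]⟩
  have hcomm : ∀ x, (∃ k, orderOf x = q ^ k) → ∀ n ∈ N0, n * x = x * n := by
    intro x hxq
    obtain ⟨a, ha⟩ := hidx x hxq
    set C := (centralizer ({x} : Set (G))).subgroupOf N0 with hC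
    have hCidx : ∃ b, C.index = p ^ b := by
      obtain ⟨b, -, hb⟩ := (Nat.dvd_prime_pow hp).1
        (ha ▸ relIndex_dvd_index_normal' (centralizer ({x} : Set _)) N0)
      exact ⟨b, hb⟩
    have hFle : Cfsg.fittingSubgroup N0 ≤ C := by
      rw [Core.fittingSubgroup_eq_iSup_pCore]
      refine iSup_le fun l' => ?_
      obtain ⟨l, hl⟩ := l'
      show Cfsg.pCore l N0 ≤ C
      have := Fact.mk hl
      by_cases hlp : l = p
      · subst hlp
        have := Core.map_pCore_normal (p := l) N0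
        have h0 : (Cfsg.pCore l N0).map N0.subtype ≤ ⊥ :=
          hbot ▸ Core.le_pCore (Core.pCore_isPGroup.map N0.subtype)
        rw [le_bot_iff, (Subgroup.map_eq_bot_iff_of_injective _ N0.subtype_injective)] at h0
        rw [h0]; exact bot_le
      · obtain ⟨b, hb⟩ := hCidx
        obtain ⟨T⟩ := (inferInstance : Nonempty (Sylow l C))
        obtain ⟨P, hP⟩ := (T.isPGroup'.map C.subtype).exists_le_sylow
        refine (Core.pCore_le_sylow P).trans ?_
        have hidx' : ¬ l ∣ ((T : Subgroup C).map C.subtype).index := by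
          rw [index_map_subtype, hb]
          exact hl.not_dvd_mul T.not_dvd_index
            fun hd => hlp ((Nat.prime_dvd_prime_iff_eq hl hp).1 (hl.dvd_of_dvd_pow hd))
        obtain ⟨n, hn⟩ := IsPGroup.iff_card.1 P.isPGroup'
        obtain ⟨m, -, hm⟩ := (Nat.dvd_prime_pow hl).1
          (hn ▸ (index_dvd_card (((T : Subgroup C).map C.subtype).subgroupOf (P : Subgroup N0))))
        rcases Nat.eq_zero_or_pos m with rfl | hm0
        · rw [pow_zero] at hm
          exact (relIndex_eq_one.1 hm).trans (map_subtype_le _)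
        · refine absurd ((dvd_pow_self l hm0.ne').trans ?_) hidx'
          rw [← hm]
          exact ⟨_, (relIndex_mul_index hP).symm⟩
    intro n hn
    have hconjN0 : x * n * x⁻¹ ∈ N0 :=
      ⟨hOn.conj_mem n hn.1 x, hLn.conj_mem n hn.2 x⟩
    set c : N0 := ⟨x * n * x⁻¹, hconjN0⟩ * (⟨n, hn⟩ : N0)⁻¹ with hcdef
    have hcF : c ∈ Cfsg.fittingSubgroup N0 := by
      refine Core.centralizer_fittingSubgroup_le (mem_centralizer_iff.2 fun g hg => Subtype.ext ?_)
      have hFn : (Cfsg.fittingSubgroup N0).Normal := inferInstance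
      have h1 : ((⟨n, hn⟩ : N0)⁻¹ * g * ⟨n, hn⟩ : N0) ∈ Cfsg.fittingSubgroup N0 := by
        simpa using hFn.conj_mem g hg (⟨n, hn⟩ : N0)⁻¹
      have hg1 : (g : G) * x = x * g :=
        mem_centralizer_singleton_iff.1 (mem_subgroupOf.1 (hFle hg))
      have hg2 : (n⁻¹ * g * n) * x = x * (n⁻¹ * (g : G) * n) :=
        mem_centralizer_singleton_iff.1 (mem_subgroupOf.1 (hFle h1))
      show (g : G) * (x * n * x⁻¹ * n⁻¹) = x * n * x⁻¹ * n⁻¹ * g
      calc (g : G) * (x * n * x⁻¹ * n⁻¹)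
          = ((g : G) * x) * n * x⁻¹ * n⁻¹ := by group
        _ = x * n * ((n⁻¹ * g * n) * x⁻¹) * n⁻¹ := by rw [hg1]; group
        _ = x * n * (x⁻¹ * (n⁻¹ * g * n)) * n⁻¹ := by
            rw [(show Commute (n⁻¹ * (g : G) * n) x from hg2).inv_right.eq]
        _ = _ := by group
    have hcx : (c : G) * x = x * c :=
      mem_centralizer_singleton_iff.1 (mem_subgroupOf.1 (hFle hcF))
    obtain ⟨k, hk⟩ := hxq
    have hpow : ∀ i : ℕ, x ^ i * n * (x ^ i)⁻¹ = (c : G) ^ i * n := by
      intro i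
      induction i with
      | zero => simp
      | succ i ih =>
        have hci : Commute x ((c : G) ^ i) :=
          (show Commute x (c : G) from hcx.symm).pow_right i
        calc x ^ (i + 1) * n * (x ^ (i + 1))⁻¹ = x * (x ^ i * n * (x ^ i)⁻¹) * x⁻¹ := by
              rw [pow_succ']; group
          _ = x * (c : G) ^ i * n * x⁻¹ := by rw [ih]; group
          _ = (c : G) ^ i * (x * n * x⁻¹) := by rw [hci.eq]; group
          _ = (c : G) ^ i * ((c : G) * n) := by
              congr 1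
              show x * n * x⁻¹ = x * n * x⁻¹ * n⁻¹ * n
              group
          _ = _ := by rw [← mul_assoc, ← pow_succ]
    have h0 := hpow (orderOf x)
    rw [pow_orderOf_eq_one, one_mul, inv_one, mul_one, right_eq_mul] at h0
    have hc1 : orderOf (c : G) ∣ Nat.gcd (orderOf (c : G)) (q ^ k) :=
      Nat.dvd_gcd dvd_rfl (hk ▸ orderOf_dvd_of_pow_eq_one h0)
    rw [((hN0cop _ c.2).pow_right k).gcd_eq_one, Nat.dvd_one, orderOf_eq_one_iff] at hc1
    have e : x * n * x⁻¹ = n := mul_inv_eq_one.1 hc1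
    exact (mul_inv_eq_iff_eq_mul.1 e).symm
  have hU := h.sylow_image_normal S
  refine ⟨fun y hy g => ?_⟩
  have hgy : ∃ k, orderOf (g * y * g⁻¹) = q ^ k := by
    obtain ⟨k, hk⟩ := hQel y hy
    exact ⟨k, by rw [show g * y * g⁻¹ = MulAut.conj g y from rfl, MulEquiv.orderOf_eq, hk]⟩
  have hmem : QuotientGroup.mk' N (g * y * g⁻¹) ∈ (S : Subgroup G).map (QuotientGroup.mk' N) := by
    rw [hU, map_mul, map_mul, map_inv]
    exact Core.pCore_normal.conj_mem _ (hU ▸ ⟨y, hy, rfl⟩) _
  obtain ⟨s, hs', e⟩ := hmem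
  set n := g * y * g⁻¹ * s⁻¹ with hn
  have hnN : n ∈ N := by
    rw [← QuotientGroup.eq_one_iff]
    show QuotientGroup.mk' N n = 1
    rw [hn, map_mul, map_inv, ← e, mul_inv_cancel]
  have hn0 : n ∈ N0 := mem_inf.2 ⟨hnN, mul_mem (hL _ hgy) (inv_mem (hL s (hQel s hs')))⟩
  have hns : Commute n s := hcomm s (hQel s hs') n hn0
  obtain ⟨k, hk⟩ := hgy
  obtain ⟨j, hj⟩ := hQel s hs'
  have hpow : n ^ q ^ (k + j) = 1 := by
    have e1 : (n * s) ^ q ^ (k + j) = 1 := by
      rw [hn, inv_mul_cancel_right, pow_add, pow_mul, ← hk, pow_orderOf_eq_one, one_pow]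
    rw [hns.mul_pow] at e1
    rwa [show s ^ q ^ (k + j) = 1 by rw [pow_add, mul_comm, pow_mul, ← hj, pow_orderOf_eq_one, one_pow],
      mul_one] at e1
  have h1 : orderOf n ∣ Nat.gcd (orderOf n) (q ^ (k + j)) :=
    Nat.dvd_gcd dvd_rfl (orderOf_dvd_of_pow_eq_one hpow)
  rw [((hN0cop n hn0).pow_right (k + j)).gcd_eq_one, Nat.dvd_one, orderOf_eq_one_iff, hn,
    mul_inv_eq_one] at h1
  exact h1 ▸ hs'


/-- The `p`-core together with the Sylow `q`-subgroup is normal. -/
theorem QB.sup_normal [hq : Fact q.Prime] (h : QB q G) (Q : Sylow q G) {p : ℕ} (hp : p.Prime)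
    (hidx : ∀ x : G, (∃ k, orderOf x = q ^ k) → ∃ a, (centralizer ({x} : Set G)).index = p ^ a) :
    (Cfsg.pCore p G ⊔ (Q : Subgroup G)).Normal := by
  have := Fact.mk hp
  have : (Cfsg.pCore p G).Normal := Core.pCore_normal
  set f := QuotientGroup.mk' (Cfsg.pCore p G) with hf
  have hs := QuotientGroup.mk'_surjective (Cfsg.pCore p G)
  have hn : ((Q : Subgroup G).map f).Normal :=
    (h.map hs).normal_of_pCore_eq_bot (Q.mapSurjective hs) hp Core.pCore_quotient_eq_bot fun y hy => by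
      obtain ⟨x, hx, rfl⟩ := exists_lift hs hy
      obtain ⟨a, ha⟩ := hidx x hx
      obtain ⟨b, -, hb⟩ := (Nat.dvd_prime_pow hp).1 (ha ▸ index_centralizer_map hs x)
      exact ⟨b, hb⟩
  have e : Cfsg.pCore p G ⊔ (Q : Subgroup G) = ((Q : Subgroup G).map f).comap f := by
    rw [comap_map_eq, QuotientGroup.ker_mk', sup_comm]
  rw [e]
  exact hn.comap f

end Cfsg.Agent.QBaer
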